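import Mathlib

/-!
Elementary algebra for Higman's theorem on Suzuki 2-groups:
* an alternating biadditive map `F × F → F` that is homogeneous of degree one is zero
  (characteristic two, squaring surjective);
* equal products of two ring homomorphisms have equal factors;
* functions of degree `< d` on `(ZMod 2)^d` sum to zero.
-/

set_option autoImplicit false

namespace Cfsg.Agent.SuzukiTwo

section Pairing

variable {F : Type*} [Field F] [Fintype F] [CharP F 2]

lemma exists_sq (x : F) : ∃ y : F, y * y = x := by
  have hinj : Function.Injective (fun y : F => y * y) := by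
    intro a b h
    simp only at h
    have h2 : (a + b) * (a + b) = 0 := by
      have : (2 : F) = 0 := CharTwo.two_eq_zero
      linear_combination h + (a * b + b * b) * this
    have := mul_self_eq_zero.1 h2
    exact CharTwo.add_eq_zero.1 this
  exact (Finite.injective_iff_surjective.1 hinj) x

/-- An alternating biadditive map with `β (u a) (u b) = u β a b` vanishes. -/
theorem pairing_zero (β : F → F → F) (hl : ∀ a b c, β (a + b) c = β a c + β b c)
    (hr : ∀ a b c, β a (b + c) = β a b + β a c) (hs : ∀ u a b, u ≠ 0 → β (u * a) (u * b) = u * β a b)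
    (halt : ∀ a, β a a = 0) : ∀ a b, β a b = 0 := by
  have h01 : ∀ b, β 0 b = 0 := by
    intro b
    have := hl 0 0 b
    simp only [add_zero] at this
    exact left_eq_add.1 this
  have key : ∀ a, β 1 (a * a) = 0 := by
    intro a
    rcases eq_or_ne a 0 with rfl | ha
    · have := hr 1 0 0
      simp only [add_zero] at this
      simpa using left_eq_add.1 this
    rcases eq_or_ne (a + 1) 0 with ha1 | ha1
    · rw [CharTwo.add_eq_zero.1 ha1, one_mul]
      exact halt 1
    have h11 : β 1 1 = 0 := halt 1
    have e0 : β (a + 1) (a * (a + 1)) = (a + 1) * β 1 a := by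
      have := hs (a + 1) 1 a ha1
      simpa [mul_comm] using this
    have e1 : β a (a * (a + 1)) = a * β 1 a := by
      have := hs a 1 (a + 1) ha
      rw [mul_one, hr 1 a 1, h11, add_zero] at this
      exact this
    have e2 : β 1 (a * (a + 1)) = β 1 (a * a) + β 1 a := by
      rw [mul_add, mul_one, hr]
    have := hl a 1 (a * (a + 1))
    rw [e0, e1, e2] at this
    linear_combination -this
  intro a b
  rcases eq_or_ne a 0 with rfl | ha
  · exact h01 b
  obtain ⟨c, hc⟩ := exists_sq (b / a)
  have := hs a 1 (c * c) ha
  rw [key c, mul_zero, mul_one, hc] at this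
  rwa [mul_div_cancel₀ b ha] at this

omit [Fintype F] [CharP F 2] in
/-- If `α β = γ δ` for ring endomorphisms then the factors agree. -/
theorem prods_eq (α β γ δ : F →+* F) (h : ∀ x, α x * β x = γ x * δ x) :
    (α = γ ∧ β = δ) ∨ (α = δ ∧ β = γ) := by
  have hsum : ∀ x, α x + β x = γ x + δ x := fun x => by
    have h1 := h (x + 1)
    simp only [map_add, map_one] at h1
    linear_combination h1 - h x
  have hor : ∀ x, α x = γ x ∨ α x = δ x := fun x => by
    have : (α x - γ x) * (α x - δ x) = 0 := by
      linear_combination (α x) * (hsum x) - h x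
    rcases mul_eq_zero.1 this with h1 | h1
    · exact Or.inl (sub_eq_zero.1 h1)
    · exact Or.inr (sub_eq_zero.1 h1)
  have hall : (∀ x, α x = γ x) ∨ (∀ x, α x = δ x) := by
    by_contra hc
    rw [not_or, not_forall, not_forall] at hc
    obtain ⟨⟨a, ha⟩, ⟨b, hb⟩⟩ := hc
    have ha' := (hor a).resolve_left ha
    have hb' := (hor b).resolve_right hb
    rcases hor (a + b) with h1 | h1 <;> simp only [map_add] at h1
    · exact ha (by linear_combination h1 - hb')
    · exact hb (by linear_combination h1 - ha')
  rcases hall with h1 | h1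
  · exact Or.inl ⟨RingHom.ext h1, RingHom.ext fun x => by linear_combination hsum x - h1 x⟩
  · exact Or.inr ⟨RingHom.ext h1, RingHom.ext fun x => by linear_combination hsum x - h1 x⟩

end Pairing

section Degree

variable {V : Type*} [AddCommGroup V]

/-- `f` has degree at most `k`: every `(k+1)`-fold derivative vanishes. -/
def IsDeg : ℕ → (V → ZMod 2) → Prop
  | 0, f => ∀ v, f v = f 0
  | k + 1, f => ∀ a, IsDeg k (fun v => f (v + a) + f v)

lemma IsDeg.zero_fun : ∀ k, IsDeg k (fun _ : V => (0 : ZMod 2))
  | 0 => fun _ => rfl
  | k + 1 => fun a => by simpa using IsDeg.zero_fun k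

lemma IsDeg.const : ∀ k (c : ZMod 2), IsDeg k (fun _ : V => c)
  | 0, _ => fun _ => rfl
  | k + 1, c => fun a => by
      have : c + c = 0 := CharTwo.add_self_eq_zero c
      simpa [this] using IsDeg.zero_fun (V := V) k

lemma IsDeg.succ : ∀ {k} {f : V → ZMod 2}, IsDeg k f → IsDeg (k + 1) f
  | 0, f, h => fun a v => by
      show f (v + a) + f v = f (0 + a) + f 0
      rw [h (v + a), h v, h (0 + a)]
  | k + 1, f, h => fun a => IsDeg.succ (h a)

lemma IsDeg.mono {k l : ℕ} {f : V → ZMod 2} (hkl : k ≤ l) (h : IsDeg k f) : IsDeg l f :=
  Nat.le_induction h (fun _ _ ih => ih.succ) l hkl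

lemma IsDeg.add : ∀ {k} {f g : V → ZMod 2}, IsDeg k f → IsDeg k g → IsDeg k (fun v => f v + g v)
  | 0, f, g, hf, hg => fun v => by
      show f v + g v = f 0 + g 0
      rw [hf v, hg v]
  | k + 1, f, g, hf, hg => fun a => by
      have := IsDeg.add (hf a) (hg a)
      convert this using 2 with v
      ring

lemma IsDeg.translate : ∀ {k} {f : V → ZMod 2} (a : V), IsDeg k f → IsDeg k (fun v => f (v + a))
  | 0, f, a, hf => fun v => by
      show f (v + a) = f (0 + a)
      rw [hf (v + a), hf (0 + a)]
  | k + 1, f, a, hf => fun b => by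
      have := IsDeg.translate a (hf b)
      convert this using 2 with v
      rw [add_right_comm]

lemma IsDeg.mul : ∀ {n k l} {f g : V → ZMod 2}, k + l = n → IsDeg k f → IsDeg l g →
    IsDeg (k + l) (fun v => f v * g v) := by
  intro n
  induction n with
  | zero =>
    intro k l f g h hf hg
    obtain ⟨rfl, rfl⟩ : k = 0 ∧ l = 0 := by omega
    intro v
    show f v * g v = f 0 * g 0
    rw [hf v, hg v]
  | succ n ih =>
    intro k l f g h hf hg
    rw [h]
    intro a
    have e : (fun v => f (v + a) * g (v + a) + f v * g v) =
        fun v => (f (v + a) + f v) * g (v + a) + f v * (g (v + a) + g v) := by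
      funext v
      have h2 : f v * g (v + a) + f v * g (v + a) = 0 := CharTwo.add_self_eq_zero _
      linear_combination -h2
    show IsDeg n (fun v => f (v + a) * g (v + a) + f v * g v)
    rw [e]
    refine IsDeg.add ?_ ?_
    · cases k with
      | zero =>
        have : (fun v => (f (v + a) + f v) * g (v + a)) = fun _ => 0 := by
          funext v
          rw [hf (v + a), hf v, CharTwo.add_self_eq_zero, zero_mul]
        rw [this]; exact IsDeg.zero_fun n
      | succ k =>
        have := ih (k := k) (l := l) (by omega) (hf a) (hg.translate a)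
        rwa [show k + l = n by omega] at this
    · cases l with
      | zero =>
        have : (fun v => f v * (g (v + a) + g v)) = fun _ => 0 := by
          funext v
          rw [hg (v + a), hg v, CharTwo.add_self_eq_zero, mul_zero]
        rw [this]; exact IsDeg.zero_fun n
      | succ l =>
        have := ih (k := k) (l := l) (by omega) hf (hg a)
        rwa [show k + l = n by omega] at this

/-- A function of degree less than `d` sums to zero over any `d`-parameter cube. -/
theorem sum_cube_eq_zero [Module (ZMod 2) V] : ∀ {d k : ℕ} {f : V → ZMod 2}, k < d → IsDeg k f →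
    ∀ e : Fin d → V, ∑ x : Fin d → ZMod 2, f (∑ i, x i • e i) = 0 := by
  intro d
  induction d with
  | zero => intro k f hk; omega
  | succ d ih =>
    intro k f hk hf e
    rw [← (Fin.consEquiv (fun _ : Fin (d + 1) => ZMod 2)).sum_comp, Fintype.sum_prod_type,
      Finset.sum_comm]
    have e1 : ∀ x : Fin d → ZMod 2,
        (∑ c : ZMod 2, f (∑ i, ((Fin.consEquiv (fun _ : Fin (d + 1) => ZMod 2)) (c, x)) i • e i)) =
          f ((∑ i, x i • e i.succ) + e 0) + f (∑ i, x i • e i.succ) := by
      intro x
      simp only [Fin.sum_univ_succ, Fin.consEquiv_apply, Fin.cons_zero, Fin.cons_succ]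
      rw [show (Finset.univ : Finset (ZMod 2)) = {0, 1} from rfl, Finset.sum_pair zero_ne_one,
        zero_smul, zero_add, one_smul, add_comm (e 0), add_comm]
    rw [Finset.sum_congr rfl fun x _ => e1 x]
    cases k with
    | zero =>
      refine Finset.sum_eq_zero fun x _ => ?_
      rw [hf (_ + e 0), hf (∑ i, x i • e i.succ), CharTwo.add_self_eq_zero]
    | succ k => exact ih (by omega) (hf (e 0)) fun i => e i.succ

end Degree

end Cfsg.Agent.SuzukiTwo
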