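import Mathlib
import Cfsg.Prelude.Def_LieRecognition
import Cfsg.Agent.Lib.SuzukiTwo.Algebra

/-!
A "frame" of a Suzuki 2-group: the involutions (with `1`) parametrised by a field `F`, and a
group of automorphisms `Fˣ` acting on them by multiplication.
-/

set_option autoImplicit false

namespace Cfsg.Agent.SuzukiTwo

open scoped commutatorElement

/-- The involutions together with `1` form the image of an injective homomorphism `emb` of the
additive group of `F`, and `act u` multiplies parameters by `u`. -/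
structure Frame (P : Type*) [Group P] (F : Type*) [Field F] where
  emb : F → P
  act : Fˣ →* MulAut P
  emb_add : ∀ a b, emb (a + b) = emb a * emb b
  emb_inj : Function.Injective emb
  emb_range : ∀ x : P, x * x = 1 ↔ ∃ a, emb a = x
  act_emb : ∀ (u : Fˣ) a, act u (emb a) = emb ((u : F) * a)

namespace Frame

variable {P : Type*} [Group P] {F : Type*} [Field F] (fr : Frame P F)

lemma emb_zero : fr.emb 0 = 1 := by
  have := fr.emb_add 0 0
  rw [add_zero] at this
  exact left_eq_mul.1 this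

lemma emb_eq_one {a : F} : fr.emb a = 1 ↔ a = 0 :=
  ⟨fun h => fr.emb_inj (h.trans fr.emb_zero.symm), fun h => h ▸ fr.emb_zero⟩

lemma emb_mul_self (a : F) : fr.emb a * fr.emb a = 1 := (fr.emb_range _).2 ⟨a, rfl⟩

/-- The parameter of an involution. -/
noncomputable def log (x : P) : F := Function.invFun fr.emb x

lemma log_emb (a : F) : fr.log (fr.emb a) = a := Function.leftInverse_invFun fr.emb_inj a

lemma emb_log {x : P} (hx : x * x = 1) : fr.emb (fr.log x) = x :=
  Function.invFun_eq ((fr.emb_range x).1 hx)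

lemma log_one : fr.log 1 = 0 := by rw [← fr.emb_zero, fr.log_emb]

lemma log_mul {x y : P} (hx : x * x = 1) (hy : y * y = 1) :
    fr.log (x * y) = fr.log x + fr.log y := by
  conv_lhs => rw [← fr.emb_log hx, ← fr.emb_log hy, ← fr.emb_add, fr.log_emb]

lemma log_eq_zero {x : P} (hx : x * x = 1) : fr.log x = 0 ↔ x = 1 := by
  rw [← fr.emb_eq_one, fr.emb_log hx]

include fr in
lemma mul_mem_invol {x y : P} (hx : x * x = 1) (hy : y * y = 1) : (x * y) * (x * y) = 1 := by
  rw [← fr.emb_log hx, ← fr.emb_log hy, ← fr.emb_add]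
  exact fr.emb_mul_self _

lemma log_act (u : Fˣ) {x : P} (hx : x * x = 1) :
    fr.log (fr.act u x) = (u : F) * fr.log x := by
  conv_lhs => rw [← fr.emb_log hx, fr.act_emb, fr.log_emb]

lemma act_mul_self (u : Fˣ) {x : P} (hx : x * x = 1) : fr.act u x * fr.act u x = 1 := by
  rw [← map_mul, hx, map_one]

lemma act_inv_act (u : Fˣ) (x : P) : fr.act u⁻¹ (fr.act u x) = x := by
  rw [← MulAut.mul_apply, ← map_mul, inv_mul_cancel, map_one, MulAut.one_apply]

lemma act_act_inv (u : Fˣ) (x : P) : fr.act u (fr.act u⁻¹ x) = x := by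
  simpa using fr.act_inv_act u⁻¹ x

/-- Invariance of a set under the automorphisms. -/
def Inv (S : Set P) : Prop := ∀ u, ∀ x ∈ S, fr.act u x ∈ S

lemma act_commutator (u : Fˣ) (x y : P) : fr.act u ⁅x, y⁆ = ⁅fr.act u x, fr.act u y⁆ :=
  map_commutatorElement (fr.act u).toMonoidHom x y

section two

variable [Finite P] (hP : IsPGroup 2 P)
include hP

lemma exists_invol_power {x : P} (hx : x ≠ 1) : ∃ n : ℕ, x ^ n ≠ 1 ∧ x ^ n * x ^ n = 1 := by
  obtain ⟨k, hk⟩ := hP x
  have hex : ∃ j, x ^ 2 ^ j = 1 := ⟨k, hk⟩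
  classical
  have hj0 : Nat.find hex ≠ 0 := fun h => by
    have := Nat.find_spec hex
    rw [h] at this
    exact hx (by simpa using this)
  obtain ⟨j, hj⟩ := Nat.exists_eq_succ_of_ne_zero hj0
  refine ⟨2 ^ j, Nat.find_min hex (by omega), ?_⟩
  rw [← pow_add, ← two_mul, ← pow_succ', ← Nat.succ_eq_add_one, ← hj]
  exact Nat.find_spec hex

/-- The involutions are central. -/
lemma emb_central (a : F) (g : P) : g * fr.emb a = fr.emb a * g := by
  rcases eq_or_ne a 0 with rfl | ha
  · simp [fr.emb_zero]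
  haveI : Fact (Nat.Prime 2) := ⟨Nat.prime_two⟩
  haveI : Nontrivial P := ⟨⟨fr.emb a, 1, fun h => ha (fr.emb_eq_one.1 h)⟩⟩
  have := IsPGroup.center_nontrivial hP
  obtain ⟨z, hz, hz1⟩ := (Subgroup.nontrivial_iff_exists_ne_one _).1 this
  obtain ⟨n, hn1, hn2⟩ := exists_invol_power hP hz1
  obtain ⟨b, hb⟩ := (fr.emb_range _).1 hn2
  have hb0 : b ≠ 0 := fun h => hn1 (by rw [← hb, h, fr.emb_zero])
  have hbc : fr.emb b ∈ Subgroup.center P := hb ▸ pow_mem hz n
  have h := fr.act_emb (Units.mk0 (a / b) (div_ne_zero ha hb0)) b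
  rw [Units.val_mk0, div_mul_cancel₀ a hb0] at h
  have hc := Subgroup.mem_center_iff.1 hbc
    (fr.act (Units.mk0 (a / b) (div_ne_zero ha hb0))⁻¹ g)
  have := congrArg (fr.act (Units.mk0 (a / b) (div_ne_zero ha hb0))) hc
  rwa [map_mul, map_mul, fr.act_act_inv, h] at this

include fr in
lemma invol_central {x : P} (hx : x * x = 1) (g : P) : g * x = x * g := by
  rw [← fr.emb_log hx]; exact fr.emb_central hP _ g

/-- A non-trivial automorphism of the frame fixes only `1`. -/
lemma fpf {u : Fˣ} (hu : u ≠ 1) {x : P} (hx : fr.act u x = x) : x = 1 := by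
  by_contra hx1
  obtain ⟨n, hn1, hn2⟩ := exists_invol_power hP hx1
  obtain ⟨a, ha⟩ := (fr.emb_range _).1 hn2
  have ha0 : a ≠ 0 := fun h => hn1 (by rw [← ha, h, fr.emb_zero])
  have h1 : fr.act u (x ^ n) = x ^ n := by rw [map_pow, hx]
  rw [← ha, fr.act_emb] at h1
  have := fr.emb_inj h1
  exact hu (Units.ext (mul_right_cancel₀ ha0 (this.trans (one_mul a).symm)))

/-- A set avoiding `1` invariant under `H` has size divisible by the order of `H`. -/
lemma card_dvd (H : Subgroup Fˣ) {S : Set P} (h1 : (1 : P) ∉ S)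
    (hS : ∀ u ∈ H, ∀ x ∈ S, fr.act u x ∈ S) : Nat.card H ∣ Nat.card S := by
  let A : MulAction H S :=
    { smul := fun u x => ⟨fr.act u x, hS u u.2 x x.2⟩
      one_smul := fun x => Subtype.ext (show fr.act ((1 : H) : Fˣ) (x : P) = x by
        rw [Subgroup.coe_one, map_one, MulAut.one_apply])
      mul_smul := fun u v x => Subtype.ext (show fr.act ((u * v : H) : Fˣ) (x : P) =
          fr.act (u : Fˣ) (fr.act (v : Fˣ) (x : P)) by
        rw [Subgroup.coe_mul, map_mul, MulAut.mul_apply]) }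
  let : MulAction H S := A
  have hfree : ∀ b : S, MulAction.stabilizer H b = ⊥ := fun b => by
    refine (Subgroup.eq_bot_iff_forall _).2 fun u hu => ?_
    by_contra hne
    have h2 : fr.act (u : Fˣ) (b : P) = b := congrArg Subtype.val hu
    exact h1 (fr.fpf hP (fun h => hne (Subtype.ext h)) h2 ▸ b.2)
  rw [Nat.card_congr (MulAction.selfEquivOrbitsQuotientProd hfree), Nat.card_prod]
  exact dvd_mul_left _ _

lemma eq_one_of_invariant {u : Fˣ} (hodd : Odd (orderOf u)) {S : Set P} {m : ℕ}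
    (h1 : (1 : P) ∉ S) (hS : ∀ x ∈ S, fr.act u x ∈ S) (hcard : Nat.card S = 2 ^ m) : u = 1 := by
  have hall : ∀ v ∈ Subgroup.zpowers u, ∀ x ∈ S, fr.act v x ∈ S := by
    intro v hv
    obtain ⟨n, rfl⟩ :=
      (IsOfFinOrder.mem_powers_iff_mem_zpowers (orderOf_pos_iff.1 hodd.pos)).2 hv
    intro x hx
    induction n with
    | zero => simpa using hx
    | succ n ih =>
      have h2 : fr.act (u ^ (n + 1)) x = fr.act u (fr.act (u ^ n) x) := by
        rw [pow_succ', map_mul, MulAut.mul_apply]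
      show fr.act (u ^ (n + 1)) x ∈ S
      rw [h2]
      exact hS _ (ih (by simp))
  have h := fr.card_dvd hP (Subgroup.zpowers u) h1 hall
  rw [hcard, Nat.card_zpowers] at h
  exact orderOf_eq_one_iff.1
    (Nat.Coprime.eq_one_of_dvd (Nat.Coprime.pow_right _ hodd.coprime_two_right) h)

/-- An invariant subgroup other than `⊥` contains all involutions. -/
lemma emb_mem {H : Subgroup P} (hH : fr.Inv (H : Set P)) (hne : H ≠ ⊥) (a : F) :
    fr.emb a ∈ H := by
  rcases eq_or_ne a 0 with rfl | ha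
  · rw [fr.emb_zero]; exact H.one_mem
  obtain ⟨x, hx, hx1⟩ := H.bot_or_exists_ne_one.resolve_left hne
  obtain ⟨n, hn1, hn2⟩ := exists_invol_power hP hx1
  obtain ⟨b, hb⟩ := (fr.emb_range _).1 hn2
  have hb0 : b ≠ 0 := fun h => hn1 (by rw [← hb, h, fr.emb_zero])
  have h := fr.act_emb (Units.mk0 (a / b) (div_ne_zero ha hb0)) b
  rw [Units.val_mk0, div_mul_cancel₀ a hb0, hb] at h
  rw [← h]
  exact hH _ _ (H.pow_mem hx n)

section field

variable [Fintype F] [CharP F 2]

omit [Finite P] hP in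
lemma odd_orderOf (u : Fˣ) : Odd (orderOf u) := by
  classical
  have h1 : Odd (Fintype.card Fˣ) := by
    rw [Fintype.card_units]
    obtain ⟨n, hp, hn⟩ := FiniteField.card F 2
    rw [hn]
    exact Nat.Even.sub_odd Nat.one_le_two_pow
      ((Nat.even_pow).2 ⟨even_two, n.pos.ne'⟩) odd_one
  exact h1.of_dvd_nat orderOf_dvd_card

lemma not_invariant {u : Fˣ} (hu : u ≠ 1) {S : Set P} {m : ℕ} (h1 : (1 : P) ∉ S)
    (hS : ∀ x ∈ S, fr.act u x ∈ S) (hcard : Nat.card S = 2 ^ m) : False :=
  hu (fr.eq_one_of_invariant hP (odd_orderOf u) h1 hS hcard)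

/-- A coset of an invariant subgroup fixed by a non-trivial automorphism is the trivial one. -/
lemma mem_of_coset_fixed {u : Fˣ} (hu : u ≠ 1) {H : Subgroup P} (hH : fr.Inv (H : Set P)) {x : P}
    (hx : x⁻¹ * fr.act u x ∈ H) : x ∈ H := by
  by_contra hxH
  obtain ⟨m, hm⟩ := (IsPGroup.iff_card (p := 2)).1 (hP.to_subgroup H)
  refine fr.not_invariant hP hu (S := (fun h => x * h) '' (H : Set P)) (m := m) ?_ ?_ ?_
  · rintro ⟨h, hh, he⟩
    exact hxH (by rw [eq_inv_of_mul_eq_one_left he]; exact H.inv_mem hh)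
  · rintro y ⟨h, hh, rfl⟩
    refine ⟨x⁻¹ * fr.act u x * fr.act u h, H.mul_mem hx (hH u h hh), ?_⟩
    simp [map_mul, mul_assoc]
  · rw [Nat.card_image_of_injective (mul_right_injective x)]
    exact hm

/-- An invariant subgroup containing, with any two elements outside it, their quotient is
everything above it. -/
lemma le_of_index_two {H L : Subgroup P} (hH : fr.Inv (H : Set P)) (hL : fr.Inv (L : Set P))
    {u : Fˣ} (hu : u ≠ 1) (h2 : ∀ x ∈ L, ∀ y ∈ L, x ∉ H → y ∉ H → x⁻¹ * y ∈ H) : L ≤ H := by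
  intro x hx
  by_contra hxH
  refine hxH (fr.mem_of_coset_fixed hP hu hH (h2 x hx _ (hL u x hx) hxH fun h => hxH ?_))
  have := hH u⁻¹ _ h
  rwa [fr.act_inv_act] at this

end field

end two

end Frame

end Cfsg.Agent.SuzukiTwo
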