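import Mathlib
import Cfsg.Agent.Lib.SuzukiTwo.Homocyclic

/-!
An invariant normal abelian subgroup of exponent at least 8 of a (non-abelian) Suzuki 2-group
would make the group abelian.
-/

set_option autoImplicit false

namespace Cfsg.Agent.SuzukiTwo

open scoped commutatorElement

variable {P : Type*} [Group P]

/-- The three ways in which commutation with elements over `A` behaves on `A`. -/
lemma comm_upper {A : Subgroup P} {hA : A.Normal} (hAc : ∀ a ∈ A, ∀ b ∈ A, a * b = b * a)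
    {y : P} (hy : y ∈ upperSub A hA) :
    (∀ c ∈ A, ∀ d ∈ A, ⁅y, c * d⁆ = ⁅y, c⁆ * ⁅y, d⁆) ∧
      (∀ c ∈ A, ∀ n : ℕ, ⁅y, c ^ n⁆ = ⁅y, c⁆ ^ n) ∧
      ∀ c ∈ A, ⁅y, ⁅y, c⁆⁆ * (⁅y, c⁆ * ⁅y, c⁆) = 1 := by
  have hmul : ∀ c ∈ A, ∀ d ∈ A, ⁅y, c * d⁆ = ⁅y, c⁆ * ⁅y, d⁆ := by
    intro c hc d _
    rw [commutatorElement_mul_right_eq_mul_conj, mul_assoc ⁅y, c⁆ c, mul_assoc ⁅y, c⁆,
      hAc c hc _ (hy.2 d), mul_inv_cancel_right]
  refine ⟨hmul, fun c hc n => ?_, fun c hc => ?_⟩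
  · induction n with
    | zero => simp
    | succ n ih => rw [pow_succ, hmul _ (A.pow_mem hc n) _ hc, ih, pow_succ]
  · have h1 : ⁅y * y, c⁆ = 1 := commutatorElement_eq_one_iff_mul_comm.2 (hAc _ hy.1 _ hc)
    rw [commutatorElement_mul_left_eq_conj_mul] at h1
    rw [show y * ⁅y, c⁆ * y⁻¹ = ⁅y, ⁅y, c⁆⁆ * ⁅y, c⁆ by simp [commutatorElement_def, mul_assoc],
      mul_assoc] at h1
    exact h1

lemma comm_upper_left {A : Subgroup P} {hA : A.Normal} {x y c : P} :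
    ⁅x * y, c⁆ = ⁅x, ⁅y, c⁆⁆ * ⁅y, c⁆ * ⁅x, c⁆ := by
  have := hA
  simp [commutatorElement_def, mul_assoc]

namespace Frame

variable {F : Type*} [Field F] (fr : Frame P F)
variable [Finite P] [Fintype F] [CharP F 2] (hP : IsPGroup 2 P)
include hP

/-- Commutation with elements over `A` moves `A` inside its involutions, and elements over `A`
which are not in `A` square outside `A²`. -/
lemma upper_sq {A : Subgroup P} (hA : A.Normal) (hAi : fr.Inv (A : Set P))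
    (hAc : ∀ a ∈ A, ∀ b ∈ A, a * b = b * a) {h : ℕ} (hh : 1 ≤ h)
    (hexp : ∀ a ∈ A, a ^ 2 ^ (h + 1 + 1) = 1) (hne : ∃ a ∈ A, a ^ 2 ^ (h + 1) ≠ 1)
    {u0 : Fˣ} (hu0 : u0 ≠ 1) :
    (∀ y ∈ upperSub A hA, ∀ c ∈ A, ⁅y, c⁆ * ⁅y, c⁆ = 1) ∧
      ∀ y ∈ upperSub A hA, y ∉ A → ∀ d ∈ A, d * d ≠ y * y := by
  classical
  set M := upperSub A hA with hM
  have hMi : fr.Inv (M : Set P) := fr.upperSub_inv hAi
  choose cs hcsA hcs using fr.top_onto hP hAi hexp hne
  have hDA : ∀ y ∈ M, ∀ c, ⁅y, c⁆ ∈ A := fun y hy c => hy.2 c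
  have hinvA : ∀ c ∈ A, c ^ 2 ^ (h + 1) * c ^ 2 ^ (h + 1) = 1 := fun c hc => by
    rw [← pow_add, ← two_mul, ← pow_succ']; exact hexp c hc
  have htriv : ∀ y ∈ M, ∀ c ∈ A, ⁅y, c⁆ ^ 2 ^ (h + 1) = 1 := fun y hy c hc => by
    rw [← (comm_upper hAc hy).2.1 c hc]
    exact commutatorElement_eq_one_iff_mul_comm.2 (fr.invol_central hP (hinvA c hc) y)
  have hhalf : ∀ y ∈ M, ∀ c ∈ A, ⁅y, c⁆ ^ 2 ^ h * ⁅y, c⁆ ^ 2 ^ h = 1 := fun y hy c hc => by
    rw [← pow_add, ← two_mul, ← pow_succ']; exact htriv y hy c hc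
  let N : P → F → F := fun y e => fr.log (⁅y, cs e⁆ ^ 2 ^ h)
  -- the map only depends on the power
  have hkey : ∀ y ∈ M, ∀ c ∈ A,
      fr.log (⁅y, c⁆ ^ 2 ^ h) = N y (fr.log (c ^ 2 ^ (h + 1))) := by
    intro y hy c hc
    set e := fr.log (c ^ 2 ^ (h + 1))
    obtain ⟨b, hb, hbe⟩ := fr.eq_sq_of_killed hP hAi hAc hexp hne
      (A.mul_mem hc (A.inv_mem (hcsA e)))
      (by rw [(show Commute c (cs e)⁻¹ from hAc _ hc _ (A.inv_mem (hcsA e))).mul_pow, inv_pow,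
            hcs e, fr.emb_log (hinvA c hc), mul_inv_cancel])
    have hce : c = b * b * cs e := by rw [hbe, inv_mul_cancel_right]
    show _ = fr.log (⁅y, cs e⁆ ^ 2 ^ h)
    rw [hce, (comm_upper hAc hy).1 _ (A.mul_mem hb hb) _ (hcsA e),
      (show Commute ⁅y, b * b⁆ ⁅y, cs e⁆ from hAc _ (hDA y hy _) _ (hDA y hy _)).mul_pow,
      show b * b = b ^ 2 from (pow_two b).symm, (comm_upper hAc hy).2.1 b hb, ← pow_mul,
      ← pow_succ', htriv y hy b hb, one_mul]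
  have hNadd : ∀ y ∈ M, ∀ a b, N y (a + b) = N y a + N y b := by
    intro y hy a b
    have := hkey y hy (cs a * cs b) (A.mul_mem (hcsA a) (hcsA b))
    rw [(comm_upper hAc hy).1 _ (hcsA a) _ (hcsA b),
      (show Commute ⁅y, cs a⁆ ⁅y, cs b⁆ from hAc _ (hDA y hy _) _ (hDA y hy _)).mul_pow,
      (show Commute (cs a) (cs b) from hAc _ (hcsA a) _ (hcsA b)).mul_pow,
      fr.log_mul (hhalf y hy _ (hcsA a)) (hhalf y hy _ (hcsA b)), hcs, hcs, ← fr.emb_add,
      fr.log_emb] at this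
    exact this.symm
  have hNmul : ∀ x ∈ M, ∀ y ∈ M, ∀ e, N (x * y) e = N x e + N y e := by
    intro x hx y hy e
    obtain ⟨d, hd, hde⟩ := fr.eq_sq_of_killed hP hAi hAc hexp hne (hDA y hy (cs e))
      (htriv y hy _ (hcsA e))
    have h1 : ⁅x, ⁅y, cs e⁆⁆ ^ 2 ^ h = 1 := by
      rw [← hde, ← pow_two, (comm_upper hAc hx).2.1 d hd, ← pow_mul, ← pow_succ', htriv x hx d hd]
    show fr.log (⁅x * y, cs e⁆ ^ 2 ^ h) = _
    rw [comm_upper_left (A := A) (hA := hA),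
      (show Commute (⁅x, ⁅y, cs e⁆⁆ * ⁅y, cs e⁆) ⁅x, cs e⁆ from
        hAc _ (A.mul_mem (hDA x hx _) (hDA y hy _)) _ (hDA x hx _)).mul_pow,
      (show Commute ⁅x, ⁅y, cs e⁆⁆ ⁅y, cs e⁆ from hAc _ (hDA x hx _) _ (hDA y hy _)).mul_pow,
      h1, one_mul, fr.log_mul (hhalf y hy _ (hcsA e)) (hhalf x hx _ (hcsA e))]
    exact add_comm _ _
  have hNidem : ∀ y ∈ M, ∀ e, N y (N y e) = N y e := by
    intro y hy e
    obtain ⟨d, hd, hde⟩ := fr.eq_sq_of_killed hP hAi hAc hexp hne (hDA y hy (cs e))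
      (htriv y hy _ (hcsA e))
    have h1 : d ^ 2 ^ (h + 1) = ⁅y, cs e⁆ ^ 2 ^ h := by
      rw [pow_succ', pow_mul, pow_two, hde]
    have h2 := hkey y hy d hd
    rw [h1] at h2
    show N y (fr.log (⁅y, cs e⁆ ^ 2 ^ h)) = fr.log (⁅y, cs e⁆ ^ 2 ^ h)
    rw [← h2]
    have h3 := (comm_upper hAc hy).2.2 (cs e) (hcsA e)
    have h4 : (⁅y, d⁆ * ⁅y, cs e⁆) ^ 2 = 1 := by
      rw [(show Commute ⁅y, d⁆ ⁅y, cs e⁆ from hAc _ (hDA y hy _) _ (hDA y hy _)).mul_pow,
        ← (comm_upper hAc hy).2.1 d hd, pow_two, pow_two, hde]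
      exact h3
    have h5 : ⁅y, d⁆ ^ 2 ^ h * ⁅y, cs e⁆ ^ 2 ^ h = 1 := by
      rw [← (show Commute ⁅y, d⁆ ⁅y, cs e⁆ from hAc _ (hDA y hy _) _ (hDA y hy _)).mul_pow,
        show h = (h - 1) + 1 by omega, pow_succ', pow_mul, h4, one_pow]
    have h6 := fr.log_mul (hhalf y hy d hd) (hhalf y hy _ (hcsA e))
    rw [h5, fr.log_one] at h6
    exact CharTwo.add_eq_zero.1 h6.symm
  have hNact : ∀ (u : Fˣ), ∀ y ∈ M, ∀ e, N (fr.act u y) ((u : F) * e) = (u : F) * N y e := by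
    intro u y hy e
    have := hkey _ (hMi u y hy) _ (hAi u _ (hcsA e))
    rw [← map_pow, hcs, fr.act_emb, fr.log_emb, ← fr.act_commutator, ← map_pow,
      fr.log_act u (hhalf y hy _ (hcsA e))] at this
    exact this.symm
  -- common eigenvector
  have hNN : ∀ x ∈ M, ∀ y ∈ M, ∀ e, N x (N y e) = N y (N x e) := by
    intro x hx y hy
    have hcross : ∀ e, N x (N y e) + N y (N x e) = 0 := by
      intro e
      have := hNidem (x * y) (M.mul_mem hx hy) e
      rw [hNmul x hx y hy, hNmul x hx y hy e, hNadd x hx, hNadd y hy, hNidem x hx, hNidem y hy]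
        at this
      linear_combination this
    intro e
    exact CharTwo.add_eq_zero.1 (hcross e)
  have heig : ∀ s : Finset P, (∀ y ∈ s, y ∈ M) →
      ∃ v : F, v ≠ 0 ∧ ∀ y ∈ s, N y v = 0 ∨ N y v = v := by
    intro s
    induction s using Finset.induction_on with
    | empty => exact fun _ => ⟨1, one_ne_zero, by simp⟩
    | @insert z s _ ih =>
      intro hs
      obtain ⟨v, hv0, hv⟩ := ih fun y hy => hs y (Finset.mem_insert_of_mem hy)
      have hz := hs z (Finset.mem_insert_self z s)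
      by_cases h0 : N z v = 0
      · refine ⟨v, hv0, fun y hy => ?_⟩
        rcases Finset.mem_insert.1 hy with rfl | hy
        · exact Or.inl h0
        · exact hv y hy
      · refine ⟨N z v, h0, fun y hy => ?_⟩
        rcases Finset.mem_insert.1 hy with rfl | hy
        · exact Or.inr (hNidem _ hz v)
        · rw [hNN y (hs y (Finset.mem_insert_of_mem hy)) z hz]
          rcases hv y hy with h1 | h1
          · left
            rw [h1]
            have := hNadd z hz 0 0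
            rw [add_zero] at this
            exact left_eq_add.1 this
          · right; rw [h1]
  have hall : ∀ y ∈ M, ∀ w, N y w = 0 ∨ N y w = w := by
    have := Fintype.ofFinite P
    obtain ⟨v, hv0, hv⟩ := heig (Finset.univ.filter fun y => y ∈ M) (by simp)
    intro y hy w
    rcases eq_or_ne w 0 with rfl | hw
    · left
      have := hNadd y hy 0 0
      rw [add_zero] at this
      exact left_eq_add.1 this
    set u := Units.mk0 (w / v) (div_ne_zero hw hv0)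
    have h1 := hNact u (fr.act u⁻¹ y) (hMi _ y hy) v
    rw [fr.act_act_inv, Units.val_mk0, div_mul_cancel₀ w hv0] at h1
    rcases hv (fr.act u⁻¹ y) (by simpa using hMi u⁻¹ y hy) with h2 | h2
    · left; rw [h1, h2, mul_zero]
    · right; rw [h1, h2, div_mul_cancel₀ w hv0]
  have hid : ∀ y ∈ M, (∀ w, N y w = 0) ∨ ∀ w, N y w = w := by
    intro y hy
    by_contra hc
    rw [not_or, not_forall, not_forall] at hc
    obtain ⟨⟨a, ha⟩, ⟨b, hb⟩⟩ := hc
    have ha' := (hall y hy a).resolve_left ha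
    have hb' := (hall y hy b).resolve_right hb
    rcases hall y hy (a + b) with h1 | h1 <;> rw [hNadd y hy, ha', hb', add_zero] at h1
    · exact ha (by rw [ha']; exact h1)
    · exact hb (by rw [hb', eq_comm]; exact left_eq_add.1 h1)
  let M0 : Subgroup P :=
    { carrier := {y | y ∈ M ∧ ∀ e, N y e = 0}
      one_mem' := ⟨M.one_mem, fun e => by simp [N, fr.log_one]⟩
      mul_mem' := fun {x y} hx hy => ⟨M.mul_mem hx.1 hy.1, fun e => by
        rw [hNmul x hx.1 y hy.1, hx.2, hy.2, add_zero]⟩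
      inv_mem' := fun {x} hx => ⟨M.inv_mem hx.1, fun e => by
        have := hNmul x hx.1 x⁻¹ (M.inv_mem hx.1) e
        rw [hx.2, zero_add, mul_inv_cancel] at this
        simpa [N, fr.log_one] using this.symm⟩ }
  have hM0i : fr.Inv (M0 : Set P) := fun u y hy => ⟨hMi u y hy.1, fun e => by
    have := hNact u y hy.1 ((u⁻¹ : Fˣ) * e)
    rwa [← mul_assoc, ← Units.val_mul, mul_inv_cancel, Units.val_one, one_mul, hy.2, mul_zero]
      at this⟩
  have hN0 : ∀ y ∈ M, ∀ e, N y e = 0 := by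
    have hle : M ≤ M0 := fr.le_of_index_two hP hM0i hMi hu0 fun x hx y hy hx0 hy0 =>
      ⟨M.mul_mem (M.inv_mem hx) hy, fun e => by
        have hx' := (hid x hx).resolve_left fun h => hx0 ⟨hx, h⟩
        have hy' := (hid y hy).resolve_left fun h => hy0 ⟨hy, h⟩
        have := hNmul x hx (x⁻¹ * y) (M.mul_mem (M.inv_mem hx) hy) e
        rw [mul_inv_cancel_left, hx', hy'] at this
        exact left_eq_add.1 this⟩
    exact fun y hy => (hle hy).2
  -- commutators lie in ever higher powers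
  have hdeep : ∀ i, i + 2 ≤ h + 1 → ∀ y ∈ M, ∀ c ∈ A, ∃ d ∈ A, d ^ 2 ^ (i + 2) = ⁅y, c⁆ := by
    intro i
    induction i with
    | zero =>
      intro hi y hy c hc
      obtain ⟨d, hd, hde⟩ := fr.root_of_killed hP hAi hAc hexp hne h (by omega) ⁅y, c⁆
        (hDA y hy c) ((fr.log_eq_zero (hhalf y hy c hc)).1 (by rw [hkey y hy c hc, hN0 y hy]))
      exact ⟨d, hd, by rwa [show h + 1 + 1 - h = 0 + 2 by omega] at hde⟩
    | succ i ih =>
      intro hi y hy c hc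
      obtain ⟨d, hd, hde⟩ := ih (by omega) y hy c hc
      obtain ⟨e, he, hee⟩ := ih (by omega) y hy d hd
      have h3 := (comm_upper hAc hy).2.2 c hc
      have h4 : ⁅y, ⁅y, c⁆⁆ = e ^ 2 ^ (2 * i + 4) := by
        rw [← hde, (comm_upper hAc hy).2.1 d hd, ← hee, ← pow_mul, ← pow_add,
          show i + 2 + (i + 2) = 2 * i + 4 by omega]
      rw [h4, show 2 * i + 4 = (2 * i + 3) + 1 by omega, pow_succ, pow_mul, pow_two,
        ← pow_two, ← pow_two,
        ← (show Commute (e ^ 2 ^ (2 * i + 3)) ⁅y, c⁆ from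
          hAc _ (A.pow_mem he _) _ (hDA y hy c)).mul_pow, pow_two] at h3
      obtain ⟨a, ha, hae⟩ := fr.top_onto hP hAi hexp hne
        (fr.log (e ^ 2 ^ (2 * i + 3) * ⁅y, c⁆))
      rw [fr.emb_log h3] at hae
      refine ⟨a ^ 2 ^ (h + 1 - (i + 3)) * (e ^ 2 ^ i)⁻¹,
        A.mul_mem (A.pow_mem ha _) (A.inv_mem (A.pow_mem he _)), ?_⟩
      rw [(show Commute (a ^ 2 ^ (h + 1 - (i + 3))) (e ^ 2 ^ i)⁻¹ from
          hAc _ (A.pow_mem ha _) _ (A.inv_mem (A.pow_mem he _))).mul_pow, inv_pow, ← pow_mul,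
        ← pow_mul, ← pow_add, ← pow_add, show i + 1 + 2 = i + 3 by omega,
        show h + 1 - (i + 3) + (i + 3) = h + 1 by omega,
        show i + (i + 3) = 2 * i + 3 by omega, hae,
        hAc _ (A.pow_mem he _) _ (hDA y hy c), mul_inv_cancel_right]
  have hsq : ∀ y ∈ M, ∀ c ∈ A, ⁅y, c⁆ * ⁅y, c⁆ = 1 := by
    intro y hy c hc
    obtain ⟨d, hd, hde⟩ := hdeep (h - 1) (by omega) y hy c hc
    rw [← hde, ← pow_add, ← two_mul, ← pow_succ', show h - 1 + 2 + 1 = h + 1 + 1 by omega]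
    exact hexp d hd
  refine ⟨hsq, fun y hy hyA d hd hdd => hyA ?_⟩
  -- then `y` times a suitable element of `A` would be an involution
  obtain ⟨c0, hc0, hc0e⟩ := fr.top_onto hP hAi hexp hne (fr.log ⁅y, d⁆)
  rw [fr.emb_log (hsq y hy d hd)] at hc0e
  set c1 := c0 ^ 2 ^ h with hc1
  have hc1A : c1 ∈ A := A.pow_mem hc0 _
  have hc1sq : c1 * c1 = ⁅y, d⁆ := by rw [hc1, ← pow_add, ← two_mul, ← pow_succ', hc0e]
  have hc1D : ⁅y, c1⁆ = 1 := by
    rw [hc1, (comm_upper hAc hy).2.1 c0 hc0, show h = (h - 1) + 1 by omega, pow_succ', pow_mul,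
      pow_two, hsq y hy c0 hc0, one_pow]
  set b := d⁻¹ * c1 with hb
  have hbA : b ∈ A := A.mul_mem (A.inv_mem hd) hc1A
  have hDb : ⁅y, b⁆ = ⁅y, d⁆ := by
    rw [hb, (comm_upper hAc hy).1 _ (A.inv_mem hd) _ hc1A, hc1D, mul_one]
    have := (comm_upper hAc hy).1 _ (A.inv_mem hd) _ hd
    rw [inv_mul_cancel, commutatorElement_one_right] at this
    rw [eq_inv_of_mul_eq_one_left this.symm, inv_eq_of_mul_eq_one_left (hsq y hy d hd)]
  have hz : (y * b) * (y * b) = 1 := by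
    have e1 : y * b * (y * b) = ⁅y, b⁆ * b * (y * y) * b := by
      simp [commutatorElement_def, mul_assoc]
    rw [e1, hDb, ← hdd, hb]
    calc ⁅y, d⁆ * (d⁻¹ * c1) * (d * d) * (d⁻¹ * c1)
        = ⁅y, d⁆ * ((d⁻¹ * c1) * d) * (d * d⁻¹) * c1 := by group
      _ = ⁅y, d⁆ * c1 * c1 := by
        rw [mul_inv_cancel, mul_one, mul_assoc d⁻¹ c1, hAc _ hc1A _ hd, inv_mul_cancel_left]
      _ = 1 := by rw [mul_assoc, hc1sq, hsq y hy d hd]
  have hAb : A ≠ ⊥ := fun h0 => by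
    obtain ⟨a, ha, ha1⟩ := hne
    rw [h0, Subgroup.mem_bot] at ha
    exact ha1 (by rw [ha, one_pow])
  have h8 := fr.emb_mem hP hAi hAb (fr.log (y * b))
  rw [fr.emb_log hz] at h8
  simpa using A.mul_mem h8 (A.inv_mem hbA)

/-- No elements over `A` outside `A`. -/
lemma upper_le {A : Subgroup P} (hA : A.Normal) (hAi : fr.Inv (A : Set P))
    (hAc : ∀ a ∈ A, ∀ b ∈ A, a * b = b * a) {h : ℕ} (hh : 1 ≤ h)
    (hexp : ∀ a ∈ A, a ^ 2 ^ (h + 1 + 1) = 1) (hne : ∃ a ∈ A, a ^ 2 ^ (h + 1) ≠ 1)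
    {u0 : Fˣ} (hu0 : u0 ≠ 1)
    (hT : upperSub A hA ⊓ Subgroup.centralizer (A : Set P) ≤ A) :
    upperSub A hA ≤ A := by
  obtain ⟨hsq, hnsq⟩ := fr.upper_sq hP hA hAi hAc hh hexp hne hu0
  set M := upperSub A hA with hM
  have hMi : fr.Inv (M : Set P) := fr.upperSub_inv hAi
  by_contra hcon
  obtain ⟨y0, hy0, hy0A⟩ := Set.not_subset.1 hcon
  have hinvA : ∀ c ∈ A, c ^ 2 ^ (h + 1) * c ^ 2 ^ (h + 1) = 1 := fun c hc => by
    rw [← pow_add, ← two_mul, ← pow_succ']; exact hexp c hc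
  let π : P → F := fun y => fr.log ((y * y) ^ 2 ^ (h + 1))
  have hker : ∀ y ∈ M, π y = 0 → y ∈ A := by
    intro y hy h0
    by_contra hyA
    obtain ⟨b, hb, hbe⟩ := fr.eq_sq_of_killed hP hAi hAc hexp hne hy.1
      ((fr.log_eq_zero (hinvA _ hy.1)).1 h0)
    exact hnsq y hy hyA b hb hbe
  have hπadd : ∀ x ∈ M, ∀ y ∈ M, π (x * y) = π x + π y := by
    intro x hx y hy
    have hh1 : x * y * (x * y) = x * x * ⁅x⁻¹, y⁆ * (y * y) := by
      simp [commutatorElement_def, mul_assoc]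
    have hwA : ⁅x⁻¹, y⁆ ∈ A := (M.inv_mem hx).2 y
    have hw4 : ⁅x⁻¹, y⁆ ^ 2 ^ (h + 1) = 1 := by
      have h1 : ⁅x⁻¹, y * y⁆ * ⁅x⁻¹, y * y⁆ = 1 := hsq _ (M.inv_mem hx) _ hy.1
      have h2 : ⁅x⁻¹, y * y⁆ = ⁅y, ⁅x⁻¹, y⁆⁆ * (⁅x⁻¹, y⁆ * ⁅x⁻¹, y⁆) := by
        rw [commutatorElement_mul_right_eq_mul_conj, mul_assoc ⁅x⁻¹, y⁆ y,
          mul_assoc ⁅x⁻¹, y⁆ (y * ⁅x⁻¹, y⁆),
          hAc ⁅x⁻¹, y⁆ hwA _ (hA.conj_mem _ hwA y)]
        simp only [commutatorElement_def]; group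
      rw [h2, ← pow_two, ← pow_two, (show Commute ⁅y, ⁅x⁻¹, y⁆⁆ (⁅x⁻¹, y⁆ ^ 2) from
        hAc _ (hy.2 _) _ (A.pow_mem hwA _)).mul_pow, pow_two ⁅y, _⁆, hsq _ hy _ hwA, one_mul,
        ← pow_mul] at h1
      rw [show h + 1 = (h - 1) + 2 by omega, pow_add, mul_comm, pow_mul]
      rw [show (2 : ℕ) ^ 2 = 2 * 2 by norm_num, h1, one_pow]
    simp only [π]
    rw [hh1, (show Commute (x * x * ⁅x⁻¹, y⁆) (y * y) from
        hAc _ (A.mul_mem hx.1 hwA) _ hy.1).mul_pow,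
      (show Commute (x * x) ⁅x⁻¹, y⁆ from hAc _ hx.1 _ hwA).mul_pow, hw4, mul_one,
      fr.log_mul (hinvA _ hx.1) (hinvA _ hy.1)]
  have hπact : ∀ (u : Fˣ), ∀ y ∈ M, π (fr.act u y) = (u : F) * π y := by
    intro u y hy
    simp only [π]
    rw [← map_mul, ← map_pow, fr.log_act u (hinvA _ hy.1)]
  have hπ0 : π y0 ≠ 0 := fun h => hy0A (hker y0 hy0 h)
  have hπonto : ∀ a, ∃ y ∈ M, π y = a := by
    intro a
    rcases eq_or_ne a 0 with rfl | ha
    · refine ⟨1, M.one_mem, ?_⟩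
      simp [π, fr.log_one]
    refine ⟨fr.act (Units.mk0 (a / π y0) (div_ne_zero ha hπ0)) y0, hMi _ _ hy0, ?_⟩
    rw [hπact _ _ hy0, Units.val_mk0, div_mul_cancel₀ a hπ0]
  choose ys hysM hys using hπonto
  choose cs hcsA hcs using fr.top_onto hP hAi hexp hne
  have hD2 : ∀ y ∈ M, ∀ b ∈ A, ⁅y, b * b⁆ = 1 := fun y hy b hb => by
    rw [(comm_upper hAc hy).1 b hb b hb, hsq y hy b hb]
  let γ : F → F → F := fun a b => fr.log ⁅ys a, cs b⁆
  have hwd : ∀ y ∈ M, ∀ c ∈ A, fr.log ⁅y, c⁆ = γ (π y) (fr.log (c ^ 2 ^ (h + 1))) := by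
    intro y hy c hc
    set e := fr.log (c ^ 2 ^ (h + 1))
    obtain ⟨b, hb, hbe⟩ := fr.eq_sq_of_killed hP hAi hAc hexp hne
      (A.mul_mem hc (A.inv_mem (hcsA e)))
      (by rw [(show Commute c (cs e)⁻¹ from hAc _ hc _ (A.inv_mem (hcsA e))).mul_pow, inv_pow,
            hcs e, fr.emb_log (hinvA c hc), mul_inv_cancel])
    have hce : c = b * b * cs e := by rw [hbe, inv_mul_cancel_right]
    have k1 : ⁅y, c⁆ = ⁅y, cs e⁆ := by
      rw [hce, (comm_upper hAc hy).1 _ (A.mul_mem hb hb) _ (hcsA e), hD2 y hy b hb, one_mul]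
    have hya : (ys (π y))⁻¹ * y ∈ A := hker _ (M.mul_mem (M.inv_mem (hysM _)) hy) (by
      have h1 := hπadd _ (hysM (π y)) _ (M.mul_mem (M.inv_mem (hysM (π y))) hy)
      rw [mul_inv_cancel_left, hys] at h1
      exact left_eq_add.1 h1)
    have k2 : ⁅y, cs e⁆ = ⁅ys (π y), cs e⁆ := by
      rw [show ⁅y, cs e⁆ = ⁅ys (π y) * ((ys (π y))⁻¹ * y), cs e⁆ by rw [mul_inv_cancel_left],
        commutatorElement_mul_left_eq_conj_mul,
        commutatorElement_eq_one_iff_mul_comm.2 (hAc _ hya _ (hcsA e)), mul_one, mul_inv_cancel,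
        one_mul]
    show fr.log ⁅y, c⁆ = fr.log ⁅ys (π y), cs e⁆
    rw [k1, k2]
  have hl : ∀ a b c, γ (a + b) c = γ a c + γ b c := by
    intro a b c
    have h1 := hwd _ (M.mul_mem (hysM a) (hysM b)) _ (hcsA c)
    rw [hπadd _ (hysM a) _ (hysM b), hys, hys, hcs, fr.log_emb] at h1
    rw [← h1, commutatorElement_mul_left_eq_conj_mul,
      fr.invol_central hP (hsq _ (hysM b) _ (hcsA c)) (ys a), mul_inv_cancel_right,
      fr.log_mul (hsq _ (hysM b) _ (hcsA c)) (hsq _ (hysM a) _ (hcsA c))]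
    exact add_comm _ _
  have hr : ∀ a b c, γ a (b + c) = γ a b + γ a c := by
    intro a b c
    have h1 := hwd _ (hysM a) _ (A.mul_mem (hcsA b) (hcsA c))
    rw [(show Commute (cs b) (cs c) from hAc _ (hcsA b) _ (hcsA c)).mul_pow, hcs, hcs,
      ← fr.emb_add, fr.log_emb, hys, (comm_upper hAc (hysM a)).1 _ (hcsA b) _ (hcsA c),
      fr.log_mul (hsq _ (hysM a) _ (hcsA b)) (hsq _ (hysM a) _ (hcsA c))] at h1
    exact h1.symm
  have hsc : ∀ (u a b : F), u ≠ 0 → γ (u * a) (u * b) = u * γ a b := by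
    intro u a b hu
    have h1 := hwd _ (hMi (Units.mk0 u hu) _ (hysM a)) _ (hAi (Units.mk0 u hu) _ (hcsA b))
    rw [hπact _ _ (hysM a), hys, ← map_pow, hcs, fr.act_emb, fr.log_emb, Units.val_mk0,
      ← fr.act_commutator, fr.log_act _ (hsq _ (hysM a) _ (hcsA b)), Units.val_mk0] at h1
    exact h1.symm
  have halt : ∀ a, γ a a = 0 := by
    intro a
    have h1 := hwd _ (hysM a) _ (hysM a).1
    have h2 : ⁅ys a, ys a * ys a⁆ = 1 :=
      commutatorElement_eq_one_iff_mul_comm.2 (mul_assoc _ _ _).symm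
    rw [h2, fr.log_one, hys] at h1
    rw [show fr.log ((ys a * ys a) ^ 2 ^ (h + 1)) = a from hys a] at h1
    exact h1.symm
  refine hy0A (hT (Subgroup.mem_inf.2 ⟨hy0, Subgroup.mem_centralizer_iff.2 fun c hc => ?_⟩))
  refine (commutatorElement_eq_one_iff_mul_comm.1 ((fr.log_eq_zero (hsq y0 hy0 c hc)).1 ?_)).symm
  rw [hwd y0 hy0 c hc]
  exact pairing_zero γ hl hr hsc halt _ _

/-- Invariant normal abelian subgroups of a non-abelian Suzuki 2-group have exponent at most 4. -/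
theorem exp_four (hna : ∃ x y : P, x * y ≠ y * x) {u0 : Fˣ} (hu0 : u0 ≠ 1) :
    ∀ A : Subgroup P, A.Normal → fr.Inv (A : Set P) → (∀ a ∈ A, ∀ b ∈ A, a * b = b * a) →
      ∀ a ∈ A, a ^ 4 = 1 := by
  intro A
  induction A using (wellFounded_gt (α := Subgroup P)).induction with
  | h A ih =>
    intro hA hAi hAc a ha
    by_contra h4
    classical
    obtain ⟨k, hk⟩ : ∃ k, ∀ b ∈ A, b ^ 2 ^ k = 1 := by
      obtain ⟨k, hk⟩ := (IsPGroup.iff_card (p := 2)).1 (hP.to_subgroup A)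
      refine ⟨k, fun b hb => ?_⟩
      have h1 : (⟨b, hb⟩ : A) ^ Nat.card A = 1 := pow_card_eq_one'
      rw [hk] at h1
      simpa using congrArg Subtype.val h1
    have hex : ∃ k, ∀ b ∈ A, b ^ 2 ^ k = 1 := ⟨k, hk⟩
    have h3 : 3 ≤ Nat.find hex := by
      by_contra hlt
      refine h4 ?_
      have h1 := Nat.find_spec hex a ha
      rw [show 4 = 2 ^ Nat.find hex * 2 ^ (2 - Nat.find hex) by
        rw [← pow_add, show Nat.find hex + (2 - Nat.find hex) = 2 by omega]; norm_num,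
        pow_mul, h1, one_pow]
    obtain ⟨h, hh⟩ : ∃ h, Nat.find hex = h + 1 + 1 := ⟨Nat.find hex - 2, by omega⟩
    have hexp : ∀ b ∈ A, b ^ 2 ^ (h + 1 + 1) = 1 := hh ▸ Nat.find_spec hex
    have hne : ∃ b ∈ A, b ^ 2 ^ (h + 1) ≠ 1 := by
      have := Nat.find_min hex (show h + 1 < Nat.find hex by omega)
      simpa [not_forall] using this
    have hT : upperSub A hA ⊓ Subgroup.centralizer (A : Set P) ≤ A := by
      set T := upperSub A hA ⊓ Subgroup.centralizer (A : Set P) with hT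
      by_contra hTA
      have hAT : A ≤ T := fun b hb => Subgroup.mem_inf.2
        ⟨le_upperSub A hA hb, Subgroup.mem_centralizer_iff.2 fun c hc => hAc c hc b hb⟩
      have hlt : A < T := lt_of_le_not_ge hAT hTA
      have hTn : T.Normal := ⟨fun y hy g => Subgroup.mem_inf.2
        ⟨conj_mem_upperSub (Subgroup.mem_inf.1 hy).1 g, Subgroup.mem_centralizer_iff.2
          fun c hc => by
            have h1 := Subgroup.mem_centralizer_iff.1 (Subgroup.mem_inf.1 hy).2 _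
              (hA.conj_mem c hc g⁻¹)
            rw [inv_inv] at h1
            calc c * (g * y * g⁻¹) = g * ((g⁻¹ * c * g) * y) * g⁻¹ := by group
              _ = g * (y * (g⁻¹ * c * g)) * g⁻¹ := by rw [h1]
              _ = (g * y * g⁻¹) * c := by group⟩⟩
      have hTi : fr.Inv (T : Set P) := fun u y hy => Subgroup.mem_inf.2
        ⟨fr.upperSub_inv hAi u y (Subgroup.mem_inf.1 hy).1,
          fr.centralizer_inv hAi u y (Subgroup.mem_inf.1 hy).2⟩
      exact h4 (ih T hlt hTn hTi (fr.upper_cent_comm hP hA hAi hAc (by omega) hexp hne).1 a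
        (hAT ha))
    have hMA := fr.upper_le hP hA hAi hAc (by omega) hexp hne hu0 hT
    rcases eq_or_ne A ⊤ with rfl | htop
    · obtain ⟨x, y, hxy⟩ := hna
      exact hxy (hAc x (Subgroup.mem_top x) y (Subgroup.mem_top y))
    · obtain ⟨y, hy, hyA⟩ := exists_upperSub hP A hA htop
      exact hyA (hMA hy)

end Frame

end Cfsg.Agent.SuzukiTwo
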