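import Mathlib
import Cfsg.Agent.Lib.SuzukiTwo.Frame

/-!
A Suzuki 2-group has a frame over a finite field of characteristic two.
-/

set_option autoImplicit false

namespace Cfsg.Agent.SuzukiTwo

variable {P : Type*} [Group P]

section

variable (hcent : ∀ x : P, x * x = 1 → ∀ g : P, g * x = x * g)

/-- The subgroup of elements with square one. -/
def omegaSub : Subgroup P where
  carrier := {x | x * x = 1}
  one_mem' := one_mul 1
  mul_mem' {a b} ha hb := by
    show a * b * (a * b) = 1
    rw [show a * b * (a * b) = a * (b * a) * b by group, hcent a ha b,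
      show a * (a * b) * b = (a * a) * (b * b) by group, ha, hb, one_mul]
  inv_mem' {a} ha := by
    show a⁻¹ * a⁻¹ = 1
    rw [← mul_inv_rev, ha, inv_one]

end

theorem exists_frame_of [Finite P] (h2 : IsPGroup 2 P)
    (htwo : ∃ x y : P, x ≠ y ∧ x ≠ 1 ∧ x * x = 1 ∧ y ≠ 1 ∧ y * y = 1)
    (K : Subgroup (MulAut P)) (hK : IsCyclic K)
    (hreg : ∀ x y : P, x ≠ 1 → x * x = 1 → y ≠ 1 → y * y = 1 → ∃! k : K, (k : MulAut P) x = y) :
    ∃ (F : Type) (_ : Field F) (_ : Fintype F) (_ : CharP F 2) (fr : Frame P F),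
      4 ≤ Fintype.card F ∧ ∀ k ∈ K, ∃ v : Fˣ, fr.act v = k := by
  classical
  obtain ⟨x0, y0, hxy, hx0, hx0', hy0, hy0'⟩ := htwo
  -- involutions are central
  have hcent : ∀ x : P, x * x = 1 → ∀ g : P, g * x = x * g := by
    intro x hx g
    rcases eq_or_ne x 1 with rfl | hx1
    · simp
    have : Fact (Nat.Prime 2) := ⟨Nat.prime_two⟩
    have : Nontrivial P := ⟨⟨x, 1, hx1⟩⟩
    have := IsPGroup.center_nontrivial h2
    obtain ⟨z, hz, hz1⟩ := (Subgroup.nontrivial_iff_exists_ne_one _).1 this
    obtain ⟨n, hn1, hn2⟩ := Frame.exists_invol_power h2 hz1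
    obtain ⟨k, hk, -⟩ := hreg (z ^ n) x hn1 hn2 hx1 hx
    have hc := Subgroup.mem_center_iff.1 (pow_mem hz n) ((k : MulAut P).symm g)
    have := congrArg (k : MulAut P) hc
    rwa [map_mul, map_mul, MulEquiv.apply_symm_apply, hk] at this
  let E := omegaSub hcent
  have hEmem : ∀ x, x ∈ E ↔ x * x = 1 := fun x => Iff.rfl
  let : CommGroup E :=
    { (inferInstance : Group E) with
      mul_comm := fun a b => Subtype.ext (hcent _ b.2 _) }
  -- the automorphisms as endomorphisms
  let φ : K → AddMonoid.End (Additive E) := fun k =>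
    (MonoidHom.toAdditive
      ({ toFun := fun x => ⟨(k : MulAut P) x, by
          show (k : MulAut P) x * (k : MulAut P) x = 1
          rw [← map_mul, x.2, map_one]⟩
         map_one' := Subtype.ext (map_one _)
         map_mul' := fun x y => Subtype.ext (map_mul _ _ _) } : E →* E) :)
  have hφ : ∀ (k : K) (e : Additive E), ((φ k e).toMul : P) = (k : MulAut P) (e.toMul : P) :=
    fun k e => rfl
  have hcomm : ∀ k l : K, φ k * φ l = φ l * φ k := by
    intro k l
    have := IsCyclic.commGroup (α := K)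
    refine AddMonoidHom.ext fun e => Additive.toMul.injective (Subtype.ext ?_)
    show (k : MulAut P) ((l : MulAut P) (e.toMul : P)) =
      (l : MulAut P) ((k : MulAut P) (e.toMul : P))
    rw [← MulAut.mul_apply, ← MulAut.mul_apply, ← Subgroup.coe_mul, ← Subgroup.coe_mul,
      IsMulCommutative.is_comm.comm k l]
  let R := Subring.closure (Set.range φ)
  have hRc : ∀ r ∈ R, ∀ k, r * φ k = φ k * r := by
    intro r hr k
    have : R ≤ Subring.centralizer (Set.range φ) := by
      rw [Subring.closure_le]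
      rintro _ ⟨l, rfl⟩
      exact Subring.mem_centralizer_iff.2 (by rintro _ ⟨k, rfl⟩; exact hcomm k l)
    exact (Subring.mem_centralizer_iff.1 (this hr) _ ⟨k, rfl⟩).symm
  let e0 : Additive E := Additive.ofMul ⟨x0, hx0'⟩
  have hne0 : e0 ≠ 0 := fun h => hx0 (congrArg (fun e : Additive E => (e.toMul : P)) h)
  have hne : ∀ e : Additive E, e ≠ 0 → (e.toMul : P) ≠ 1 := fun e he h =>
    he (Additive.toMul.injective (Subtype.ext h))
  have hreach : ∀ e : Additive E, e ≠ 0 → ∃ k : K, φ k e0 = e := by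
    intro e he
    obtain ⟨k, hk, -⟩ := hreg x0 (e.toMul : P) hx0 hx0' (hne e he) e.toMul.2
    exact ⟨k, Additive.toMul.injective (Subtype.ext hk)⟩
  have hext : ∀ r ∈ R, ∀ s ∈ R, r e0 = s e0 → r = s := by
    intro r hr s hs h
    refine AddMonoidHom.ext fun e => ?_
    rcases eq_or_ne e 0 with rfl | he
    · exact (map_zero r).trans (map_zero s).symm
    obtain ⟨k, rfl⟩ := hreach e he
    show (r * φ k) e0 = (s * φ k) e0
    rw [hRc r hr, hRc s hs]
    show φ k (r e0) = φ k (s e0)
    rw [h]
  have hcases : ∀ r ∈ R, r ≠ 0 → ∃ k, φ k = r := by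
    intro r hr h0
    have : r e0 ≠ 0 := fun h => h0 (hext r hr 0 R.zero_mem (by simpa using h))
    obtain ⟨k, hk⟩ := hreach _ this
    exact ⟨k, hext _ (Subring.subset_closure ⟨k, rfl⟩) r hr hk⟩
  have hφone : φ 1 = 1 := AddMonoidHom.ext fun e => rfl
  have hφmul : ∀ k l, φ (k * l) = φ k * φ l := fun k l => AddMonoidHom.ext fun e => rfl
  have hφinj : Function.Injective φ := by
    intro k l h
    have h1 := congrArg (fun f : AddMonoid.End (Additive E) => ((f e0).toMul : P)) h
    simp only [hφ] at h1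
    have hl := hreg x0 ((l : MulAut P) x0) hx0 hx0'
      (fun h => hx0 ((l : MulAut P).injective (h.trans (map_one _).symm)))
      (by rw [← map_mul, hx0', map_one])
    exact hl.unique h1 rfl
  have hfinE : Finite (Additive E) := Finite.of_equiv E Additive.ofMul
  have : Finite (AddMonoid.End (Additive E)) :=
    Finite.of_injective (fun f : AddMonoid.End (Additive E) => (f : Additive E → Additive E))
      DFunLike.coe_injective
  have hφ0 : ∀ k, φ k ≠ 0 := fun k h => by
    have h1 : ((φ k e0).toMul : P) = 1 := by rw [h]; rfl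
    rw [hφ] at h1
    exact hx0 ((k : MulAut P).injective (h1.trans (map_one _).symm))
  have hfield : IsField R := by
    refine ⟨⟨0, 1, fun h => hφ0 1 ?_⟩, fun r s => Subtype.ext ?_, fun {r} hr => ?_⟩
    · rw [hφone]; exact (congrArg Subtype.val h).symm
    · rcases eq_or_ne (r : AddMonoid.End (Additive E)) 0 with h | h
      · simp [h]
      obtain ⟨k, hk⟩ := hcases _ r.2 h
      show (r : AddMonoid.End (Additive E)) * s = s * r
      rw [← hk]; exact (hRc _ s.2 k).symm
    · obtain ⟨k, hk⟩ := hcases _ r.2 (fun h => hr (Subtype.ext h))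
      refine ⟨⟨φ k⁻¹, Subring.subset_closure ⟨_, rfl⟩⟩, Subtype.ext ?_⟩
      show (r : AddMonoid.End (Additive E)) * φ k⁻¹ = 1
      rw [← hk, ← hφmul, mul_inv_cancel, hφone]
  let : Field R := hfield.toField
  let : Fintype R := Fintype.ofFinite R
  have hchar : CharP R 2 := by
    refine CharTwo.of_one_ne_zero_of_two_eq_zero one_ne_zero ?_
    rw [← one_add_one_eq_two]
    refine Subtype.ext (hext _ (SetLike.coe_mem _) 0 R.zero_mem ?_)
    show e0 + e0 = 0
    exact Additive.toMul.injective (Subtype.ext hx0')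
  obtain ⟨n, -, hn⟩ := FiniteField.card R 2
  let F := GaloisField 2 (n : ℕ)
  let : Fintype F := Fintype.ofFinite F
  have hcardF : Fintype.card F = Fintype.card R := by
    rw [hn, ← Nat.card_eq_fintype_card, GaloisField.card 2 n n.ne_zero]
  let ι : F ≃+* R := FiniteField.ringEquivOfCardEq hcardF
  -- parametrisation
  let emb : F → P := fun a => ((((ι a : R) : AddMonoid.End (Additive E)) e0).toMul : P)
  have hinj : Function.Injective emb := by
    intro a b h
    exact ι.injective (Subtype.ext (hext _ (ι a).2 _ (ι b).2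
      (Additive.toMul.injective (Subtype.ext h))))
  let u2k : Fˣ → K := fun u =>
    (hcases _ (ι (u : F)).2
      (fun h => u.ne_zero (ι.injective (by rw [map_zero]; exact Subtype.ext h)))).choose
  have hu2k : ∀ u : Fˣ, φ (u2k u) = (ι (u : F) : AddMonoid.End (Additive E)) := fun u =>
    (hcases _ (ι (u : F)).2
      (fun h => u.ne_zero (ι.injective (by rw [map_zero]; exact Subtype.ext h)))).choose_spec
  have hmul : ∀ u v, u2k (u * v) = u2k u * u2k v := fun u v => hφinj (by
    rw [hφmul, hu2k, hu2k, hu2k, Units.val_mul, map_mul]; rfl)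
  have hone : u2k 1 = 1 := hφinj (by rw [hu2k, hφone, Units.val_one, map_one]; rfl)
  refine ⟨F, inferInstance, inferInstance, inferInstance,
    { emb := emb
      act := K.subtype.comp { toFun := u2k, map_one' := hone, map_mul' := hmul }
      emb_add := fun a b => by
       show ((((ι (a + b) : R) : AddMonoid.End (Additive E)) e0).toMul : P) = _
       rw [map_add]; rfl
      emb_inj := hinj
      emb_range := fun x => ⟨fun hx => ?_, ?_⟩
      act_emb := fun u a => by
       show (u2k u : MulAut P) (emb a) = _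
       rw [← hφ, hu2k]
       show _ = ((((ι ((u : F) * a) : R) : AddMonoid.End (Additive E)) e0).toMul : P)
       rw [map_mul ι]
       rfl }, ?_, fun k hk => ?_⟩
  · rcases eq_or_ne x 1 with rfl | hx1
    · exact ⟨0, by show ((((ι 0 : R) : AddMonoid.End (Additive E)) e0).toMul : P) = 1
                   rw [map_zero]; rfl⟩
    obtain ⟨k, hk, -⟩ := hreg x0 x hx0 hx0' hx1 hx
    refine ⟨ι.symm ⟨φ k, Subring.subset_closure ⟨k, rfl⟩⟩, ?_⟩
    show ((((ι (ι.symm _) : R) : AddMonoid.End (Additive E)) e0).toMul : P) = x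
    rw [ι.apply_symm_apply]
    exact hk
  · rintro ⟨a, rfl⟩
    exact (((ι a : R) : AddMonoid.End (Additive E)) e0).toMul.2
  · -- at least four elements
    have h3 : ∀ x : P, x * x = 1 → ∃ a, emb a = x := by
      intro x hx
      rcases eq_or_ne x 1 with rfl | hx1
      · exact ⟨0, by show ((((ι 0 : R) : AddMonoid.End (Additive E)) e0).toMul : P) = 1
                     rw [map_zero]; rfl⟩
      obtain ⟨k, hk, -⟩ := hreg x0 x hx0 hx0' hx1 hx
      refine ⟨ι.symm ⟨φ k, Subring.subset_closure ⟨k, rfl⟩⟩, ?_⟩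
      show ((((ι (ι.symm _) : R) : AddMonoid.End (Additive E)) e0).toMul : P) = x
      rw [ι.apply_symm_apply]
      exact hk
    obtain ⟨a, ha⟩ := h3 x0 hx0'
    obtain ⟨b, hb⟩ := h3 y0 hy0'
    obtain ⟨c, hc⟩ := h3 1 (one_mul 1)
    have hab : a ≠ b := fun h => hxy (by rw [← ha, ← hb, h])
    have hac : a ≠ c := fun h => hx0 (by rw [← ha, h, hc])
    have hbc : b ≠ c := fun h => hy0 (by rw [← hb, h, hc])
    have h4 : Fintype.card F ≠ 3 := by
      rw [hcardF, hn]
      intro h
      have : Even (2 ^ (n : ℕ)) := (Nat.even_pow).2 ⟨even_two, n.ne_zero⟩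
      rw [h] at this
      exact absurd this (by decide)
    have : 3 ≤ Fintype.card F := by
      rw [show 3 = ({a, b, c} : Finset F).card by simp [hab, hac, hbc]]
      exact Finset.card_le_univ _
    omega
  · have hne1 : ι.symm ⟨φ ⟨k, hk⟩, Subring.subset_closure ⟨_, rfl⟩⟩ ≠ 0 := fun h => hφ0 ⟨k, hk⟩ (by
      have := congrArg ι h
      rw [ι.apply_symm_apply, map_zero] at this
      exact congrArg Subtype.val this)
    refine ⟨Units.mk0 _ hne1, ?_⟩
    show (u2k (Units.mk0 _ hne1) : MulAut P) = k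
    have : u2k (Units.mk0 _ hne1) = ⟨k, hk⟩ := hφinj (by rw [hu2k, Units.val_mk0, ι.apply_symm_apply])
    rw [this]

theorem exists_frame (hP : Cfsg.IsSuzukiTwoGroup P) :
    ∃ (F : Type) (_ : Field F) (_ : Fintype F) (_ : CharP F 2),
      4 ≤ Fintype.card F ∧ Nonempty (Frame P F) := by
  obtain ⟨hfin, h2, -, htwo, K, hK, hreg⟩ := hP
  obtain ⟨F, i1, i2, i3, fr, h4, -⟩ := exists_frame_of h2 htwo K hK hreg
  exact ⟨F, i1, i2, i3, h4, ⟨fr⟩⟩

end Cfsg.Agent.SuzukiTwo
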