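import Mathlib
import Cfsg.Agent.Lib.SuzukiTwo.ClassTwo
import Cfsg.Agent.Lib.SuzukiTwo.Setup

/-!
The order of a Suzuki 2-group is the square or the cube of the order of its centre.
-/

set_option autoImplicit false

namespace Cfsg.Agent.SuzukiTwo

open scoped commutatorElement

variable {P : Type*} [Group P]

namespace Frame

variable {F : Type*} [Field F] (fr : Frame P F)
variable [Finite P] [Fintype F] [CharP F 2] (hP : IsPGroup 2 P)
  (hna : ∃ x y : P, x * y ≠ y * x) {u0 : Fˣ} (hu0 : u0 ≠ 1)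
include fr hP hna hu0

theorem sq_mem_center (x : P) : x * x ∈ Subgroup.center P := by
  have h : x ∈ upperSub (Subgroup.center P) inferInstance := by
    rw [fr.class_two hP hna hu0]; exact Subgroup.mem_top x
  exact h.1

theorem commutator_mem_center (x y : P) : ⁅x, y⁆ ∈ Subgroup.center P := by
  have h : x ∈ upperSub (Subgroup.center P) inferInstance := by
    rw [fr.class_two hP hna hu0]; exact Subgroup.mem_top x
  exact h.2 y

theorem sq_sq (x : P) : x * x * (x * x) = 1 :=
  fr.center_sq hP hna hu0 _ (fr.sq_mem_center hP hna hu0 x)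

theorem comm_sq (x y : P) : ⁅x, y⁆ * ⁅x, y⁆ = 1 :=
  fr.center_sq hP hna hu0 _ (fr.commutator_mem_center hP hna hu0 x y)

theorem card_center : Nat.card (Subgroup.center P) = Fintype.card F := by
  rw [← Nat.card_eq_fintype_card]
  refine (Nat.card_congr (Equiv.ofBijective
    (fun a : F => (⟨fr.emb a,
      (fr.mem_center_iff_sq hP hna hu0).2 (fr.emb_mul_self a)⟩ : Subgroup.center P))
    ⟨fun a b h => fr.emb_inj (congrArg Subtype.val h), fun z =>
      ⟨fr.log z, Subtype.ext (fr.emb_log (fr.center_sq hP hna hu0 _ z.2))⟩⟩)).symm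

theorem index_modEq : (Fintype.card F - 1) ∣ Nat.card (P ⧸ Subgroup.center P) - 1 := by
  classical
  have h1 : (Fintype.card F - 1) ∣ Nat.card ((Subgroup.center P : Set P)ᶜ : Set P) := by
    have := fr.card_dvd hP (⊤ : Subgroup Fˣ) (S := (Subgroup.center P : Set P)ᶜ)
      (fun h => h (Subgroup.one_mem _)) (fun u _ x hx h => hx (by
        have := fr.center_inv u⁻¹ _ h
        rwa [fr.act_inv_act] at this))
    rwa [Subgroup.card_top, Nat.card_eq_fintype_card, Fintype.card_units] at this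
  have h2 : Nat.card ((Subgroup.center P : Set P)ᶜ : Set P) =
      Fintype.card F * (Nat.card (P ⧸ Subgroup.center P) - 1) := by
    have e := Subgroup.card_eq_card_quotient_mul_card_subgroup (Subgroup.center P)
    rw [fr.card_center hP hna hu0] at e
    rw [Nat.card_coe_set_eq, Set.ncard_compl, ← Nat.card_coe_set_eq]
    show Nat.card P - Nat.card (Subgroup.center P) = _
    rw [fr.card_center hP hna hu0, e, Nat.mul_sub, mul_one, mul_comm]
  rw [h2] at h1
  exact (Nat.Coprime.dvd_mul_left (by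
    have := Fintype.card_pos (α := F)
    rw [Nat.coprime_self_sub_left (by omega)]
    exact Nat.coprime_one_left _)).1 h1

/-- The quotient by the centre has order at most `|Z|²`. -/
theorem index_le : Nat.card (P ⧸ Subgroup.center P) ≤ Fintype.card F ^ 2 := by
  classical
  set Z := Subgroup.center P with hZ
  by_contra hlt
  have hcommQ : ∀ a b : P ⧸ Z, a * b = b * a := by
    intro a b
    obtain ⟨x, rfl⟩ := QuotientGroup.mk_surjective a
    obtain ⟨y, rfl⟩ := QuotientGroup.mk_surjective b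
    refine commutatorElement_eq_one_iff_mul_comm.1 ?_
    show ⁅QuotientGroup.mk' Z x, QuotientGroup.mk' Z y⁆ = 1
    rw [← map_commutatorElement, QuotientGroup.mk'_apply, QuotientGroup.eq_one_iff]
    exact fr.commutator_mem_center hP hna hu0 x y
  let : CommGroup (P ⧸ Z) := { (inferInstance : Group (P ⧸ Z)) with mul_comm := hcommQ }
  let : Module (ZMod 2) (Additive (P ⧸ Z)) := AddCommGroup.zmodModule fun v => by
    obtain ⟨x, hx⟩ := QuotientGroup.mk_surjective (Additive.toMul v)
    apply Additive.toMul.injective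
    show (Additive.toMul v) ^ 2 = 1
    rw [← hx, pow_two, ← QuotientGroup.mk_mul, QuotientGroup.eq_one_iff]
    exact fr.sq_mem_center hP hna hu0 x
  let : Fintype (Additive (P ⧸ Z)) := Fintype.ofFinite _
  let : Algebra (ZMod 2) F := ZMod.algebra F 2
  set d := Module.finrank (ZMod 2) (Additive (P ⧸ Z))
  set n := Module.finrank (ZMod 2) F
  have hd : Fintype.card (Additive (P ⧸ Z)) = 2 ^ d := by
    rw [Module.card_eq_pow_finrank (K := ZMod 2), ZMod.card]
  have hn : Fintype.card F = 2 ^ n := by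
    rw [Module.card_eq_pow_finrank (K := ZMod 2), ZMod.card]
  have hdn : 2 * n < d := by
    by_contra h
    refine hlt ?_
    rw [show Nat.card (P ⧸ Z) = Fintype.card (Additive (P ⧸ Z)) from
      Nat.card_eq_fintype_card (α := Additive (P ⧸ Z)), hd, hn, ← pow_mul]
    exact Nat.pow_le_pow_right (by norm_num) (by omega)
  -- the squaring map
  let Q : Additive (P ⧸ Z) → F := fun v =>
    fr.log ((Additive.toMul v).out * (Additive.toMul v).out)
  have hQ : ∀ x : P, Q (Additive.ofMul (x : P ⧸ Z)) = fr.log (x * x) := by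
    intro x
    obtain ⟨⟨z, hz⟩, hxz⟩ := QuotientGroup.mk_out_eq_mul Z x
    show fr.log ((x : P ⧸ Z).out * (x : P ⧸ Z).out) = _
    rw [hxz]
    congr 1
    show x * z * (x * z) = x * x
    rw [show x * z * (x * z) = x * (z * x) * z by group,
      ← Subgroup.mem_center_iff.1 hz x, show x * (x * z) * z = (x * x) * (z * z) by group,
      fr.center_sq hP hna hu0 z hz, mul_one]
  have hexp : ∀ v : Additive (P ⧸ Z), ∃ x : P, Additive.ofMul (x : P ⧸ Z) = v := fun v => by
    obtain ⟨x, hx⟩ := QuotientGroup.mk_surjective (Additive.toMul v)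
    exact ⟨x, by rw [hx]; rfl⟩
  have hQadd : ∀ x y : P, Q (Additive.ofMul (x : P ⧸ Z) + Additive.ofMul (y : P ⧸ Z)) =
      Q (Additive.ofMul (x : P ⧸ Z)) + Q (Additive.ofMul (y : P ⧸ Z)) + fr.log ⁅x, y⁆ := by
    intro x y
    rw [← ofMul_mul, ← QuotientGroup.mk_mul, hQ, hQ, hQ]
    have hc := fr.commutator_mem_center hP hna hu0 y x
    have e : x * y * (x * y) = x * (⁅y, x⁆ * x * y) * y := by
      simp [commutatorElement_def, mul_assoc]
    have e2 : ⁅y, x⁆ = ⁅x, y⁆ := by
      rw [← commutatorElement_inv x y]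
      exact inv_eq_of_mul_eq_one_left (fr.comm_sq hP hna hu0 x y)
    rw [e, ← Subgroup.mem_center_iff.1 hc x,
      show x * (x * ⁅y, x⁆ * y) * y = (x * x) * (⁅y, x⁆ * (y * y)) by group, e2,
      fr.log_mul (fr.sq_sq hP hna hu0 x)
        (fr.mul_mem_invol (fr.comm_sq hP hna hu0 x y) (fr.sq_sq hP hna hu0 y)),
      fr.log_mul (fr.comm_sq hP hna hu0 x y) (fr.sq_sq hP hna hu0 y)]
    ring
  have hQ0 : ∀ v, Q v = 0 → v = 0 := by
    intro v hv
    obtain ⟨x, rfl⟩ := hexp v
    rw [hQ, fr.log_eq_zero (fr.sq_sq hP hna hu0 x)] at hv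
    rw [(QuotientGroup.eq_one_iff x).2 ((fr.mem_center_iff_sq hP hna hu0).2 hv)]
    rfl
  let b := Module.finBasis (ZMod 2) F
  let l : Fin n → F →ₗ[ZMod 2] ZMod 2 := fun i => b.coord i
  have hdeg : ∀ i, IsDeg 2 (fun v => 1 + l i (Q v)) := by
    intro i a c v
    obtain ⟨x, rfl⟩ := hexp a
    obtain ⟨y, rfl⟩ := hexp c
    obtain ⟨z, rfl⟩ := hexp v
    show (1 + l i (Q (_ + _ + _)) + (1 + l i (Q (_ + _)))) +
        (1 + l i (Q (_ + _)) + (1 + l i (Q _))) =
      (1 + l i (Q (0 + _ + _)) + (1 + l i (Q (0 + _)))) +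
        (1 + l i (Q (0 + _)) + (1 + l i (Q 0)))
    have h0 : Q 0 = 0 := by
      show Q (Additive.ofMul ((1 : P) : P ⧸ Z)) = 0
      rw [hQ, mul_one, fr.log_one]
    have hB : fr.log ⁅z * y, x⁆ = fr.log ⁅z, x⁆ + fr.log ⁅y, x⁆ := by
      rw [commutatorElement_mul_left_eq_conj_mul,
        Subgroup.mem_center_iff.1 (fr.commutator_mem_center hP hna hu0 y x) z, mul_inv_cancel_right,
        fr.log_mul (fr.comm_sq hP hna hu0 y x) (fr.comm_sq hP hna hu0 z x)]
      exact add_comm _ _
    have e3 : Q (Additive.ofMul (z : P ⧸ Z) + Additive.ofMul (y : P ⧸ Z) +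
        Additive.ofMul (x : P ⧸ Z)) = Q (Additive.ofMul (z : P ⧸ Z) + Additive.ofMul (y : P ⧸ Z)) +
        Q (Additive.ofMul (x : P ⧸ Z)) + fr.log ⁅z * y, x⁆ := by
      rw [← ofMul_mul, ← QuotientGroup.mk_mul]; exact hQadd (z * y) x
    rw [e3, hB, hQadd z x, zero_add, zero_add, hQadd y x, h0]
    simp only [map_add, map_zero]
    have h2 : ∀ t : ZMod 2, t + t = 0 := CharTwo.add_self_eq_zero
    linear_combination (h2 (l i (Q (Additive.ofMul (z : P ⧸ Z) + Additive.ofMul (y : P ⧸ Z)))) +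
      h2 (l i (fr.log ⁅z, x⁆)) + h2 (l i (Q (Additive.ofMul (z : P ⧸ Z)))) -
      h2 (l i (Q (Additive.ofMul (y : P ⧸ Z)))))
  have hprod : ∀ s : Finset (Fin n), IsDeg (2 * s.card) (fun v => ∏ i ∈ s, (1 + l i (Q v))) := by
    intro s
    induction s using Finset.induction_on with
    | empty => simpa using IsDeg.const (V := Additive (P ⧸ Z)) 0 1
    | @insert j s hj ih =>
      have := IsDeg.mul rfl (hdeg j) ih
      rw [show 2 + 2 * s.card = 2 * (insert j s).card by rw [Finset.card_insert_of_notMem hj]; ring]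
        at this
      simpa only [Finset.prod_insert hj] using this
  have hind : ∀ v, ∏ i, (1 + l i (Q v)) = if v = 0 then (1 : ZMod 2) else 0 := by
    intro v
    split_ifs with h
    · subst h
      have h0 : Q 0 = 0 := by
        show Q (Additive.ofMul ((1 : P) : P ⧸ Z)) = 0
        rw [hQ, mul_one, fr.log_one]
      simp [h0]
    · obtain ⟨i, hi⟩ : ∃ i, l i (Q v) ≠ 0 := by
        by_contra hc
        exact h (hQ0 v (b.ext_elem fun i => by
          have : l i (Q v) = 0 := by
            by_contra h'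
            exact hc ⟨i, h'⟩
          simpa [l] using this))
      refine Finset.prod_eq_zero (Finset.mem_univ i) ?_
      have h01 : ∀ t : ZMod 2, t ≠ 0 → 1 + t = 0 := by decide
      exact h01 _ hi
  let e := Module.finBasis (ZMod 2) (Additive (P ⧸ Z))
  have hs := sum_cube_eq_zero (k := 2 * (Finset.univ : Finset (Fin n)).card) (by simpa using hdn)
    (hprod Finset.univ) e
  simp only [hind] at hs
  simp only [← Module.Basis.equivFun_symm_apply] at hs
  have hsum := Equiv.sum_comp e.equivFun.symm.toEquiv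
    (fun v : Additive (P ⧸ Z) => if v = 0 then (1 : ZMod 2) else 0)
  simp only [LinearEquiv.coe_toEquiv] at hsum
  rw [hsum, Finset.sum_ite_eq'] at hs
  simp at hs

theorem card_cases : Nat.card P = Fintype.card F ^ 2 ∨ Nat.card P = Fintype.card F ^ 3 := by
  classical
  set Z := Subgroup.center P with hZ
  have he := Subgroup.card_eq_card_quotient_mul_card_subgroup Z
  rw [fr.card_center hP hna hu0] at he
  obtain ⟨n, -, hn⟩ := FiniteField.card F 2
  obtain ⟨d, hd⟩ := (IsPGroup.iff_card (p := 2)).1 (hP.to_quotient Z)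
  have hd0 : d ≠ 0 := by
    rintro rfl
    obtain ⟨x, y, hxy⟩ := hna
    have : Subsingleton (P ⧸ Z) := (Nat.card_eq_one_iff_unique.1 (by simpa using hd)).1
    have hx : x ∈ Z := (QuotientGroup.eq_one_iff x).1 (Subsingleton.elim _ _)
    exact hxy (Subgroup.mem_center_iff.1 hx y).symm
  have h1 := fr.index_modEq hP hna hu0
  have h2 := fr.index_le hP hna hu0
  rw [hd, hn] at h1 h2
  rw [he, hd, hn]
  have h2' : d ≤ 2 * n := by
    rw [← pow_mul] at h2
    have := (Nat.pow_le_pow_iff_right (by norm_num : 1 < 2)).1 h2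
    omega
  have hle : (n : ℕ) ≤ d := by
    by_contra h
    have h3 : 2 ^ d < 2 ^ (n : ℕ) := Nat.pow_lt_pow_right (by norm_num) (by omega)
    have h4 : 2 ≤ 2 ^ d := Nat.le_self_pow hd0 2
    have := Nat.le_of_dvd (by omega) h1
    omega
  rcases hle.eq_or_lt with h | h
  · left; rw [← h]; ring
  rcases h2'.eq_or_lt with h' | h'
  · right; rw [h', ← pow_add, ← pow_mul]; congr 1; ring
  exfalso
  have h5 : 2 ^ d = 2 ^ (d - n) * 2 ^ (n : ℕ) := by rw [← pow_add]; congr 1; omega
  have h6 : (2 ^ (n : ℕ) - 1) ∣ 2 ^ (d - n) * (2 ^ (n : ℕ) - 1) := dvd_mul_left _ _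
  have h7 : 2 ≤ 2 ^ (d - n) := Nat.le_self_pow (by omega) 2
  have h8 : 2 ^ (d - n) < 2 ^ (n : ℕ) := Nat.pow_lt_pow_right (by norm_num) (by omega)
  have h9 : 2 ^ d - 1 - 2 ^ (d - n) * (2 ^ (n : ℕ) - 1) = 2 ^ (d - n) - 1 := by
    rw [h5, Nat.mul_sub, mul_one]
    have : 2 ^ (d - n) ≤ 2 ^ (d - n) * 2 ^ (n : ℕ) := Nat.le_mul_of_pos_right _ (by positivity)
    omega
  have := Nat.dvd_sub h1 h6
  rw [h9] at this
  have := Nat.le_of_dvd (by omega) this
  omega

theorem exponent_eq : Monoid.exponent P = 4 := by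
  refine Nat.dvd_antisymm (Monoid.exponent_dvd_of_forall_pow_eq_one fun x => ?_) ?_
  · rw [show x ^ 4 = x * x * (x * x) by simp [pow_succ, mul_assoc]]
    exact fr.sq_sq hP hna hu0 x
  · obtain ⟨x, y, hxy⟩ := hna
    have hx : x * x ≠ 1 := fun h => hxy ((fr.invol_central hP h y).symm)
    have hord : orderOf x = 2 ^ (1 + 1) :=
      orderOf_eq_prime_pow (by simpa [pow_two] using hx)
        (by norm_num; rw [show x ^ 4 = x * x * (x * x) by simp [pow_succ, mul_assoc]]
            exact fr.sq_sq hP ⟨x, y, hxy⟩ hu0 x)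
    have := Monoid.order_dvd_exponent x
    rw [hord] at this
    simpa using this

end Frame

/-- A frame together with a non-identity parameter. -/
theorem exists_frame' (hP : Cfsg.IsSuzukiTwoGroup P) :
    ∃ (F : Type) (_ : Field F) (_ : Fintype F) (_ : CharP F 2) (_ : Frame P F) (u0 : Fˣ),
      u0 ≠ 1 ∧ 4 ≤ Fintype.card F := by
  classical
  obtain ⟨F, hF, hF', hc, h4, ⟨fr⟩⟩ := exists_frame hP
  obtain ⟨u0, hu0⟩ : ∃ u : Fˣ, u ≠ 1 :=
    Fintype.exists_ne_of_one_lt_card (by rw [Fintype.card_units]; omega) 1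
  exact ⟨F, hF, hF', hc, fr, u0, hu0, h4⟩

end Cfsg.Agent.SuzukiTwo
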