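import Mathlib
import Cfsg.Prelude.Def_LieRecognition
import Cfsg.Agent.AutPSU.Sylow
import Cfsg.Agent.AutPSU.Main

/-!
The unipotent radical of a point stabiliser of `PSU_3(2^k)` is a Sylow 2-subgroup and a
Suzuki 2-group.
-/

set_option autoImplicit false

namespace Cfsg.Agent.SuzukiTwo

open Matrix Cfsg.Agent.Unitary Cfsg.Agent.AutPSU

lemma isSuzukiTwoGroup_congr {P Q : Type*} [Group P] [Group Q] (e : P ≃* Q)
    (h : Cfsg.IsSuzukiTwoGroup P) : Cfsg.IsSuzukiTwoGroup Q := by
  obtain ⟨hfin, h2, ⟨a, b, hab⟩, ⟨x, y, hxy, hx, hx2, hy, hy2⟩, K, hK, hreg⟩ := h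
  refine ⟨Finite.of_equiv P e.toEquiv, h2.of_equiv e, ⟨e a, e b, fun h => hab (e.injective (by
    rw [map_mul, map_mul, h]))⟩, ⟨e x, e y, fun h => hxy (e.injective h),
    fun h => hx (e.injective (h.trans (map_one e).symm)), by rw [← map_mul, hx2, map_one],
    fun h => hy (e.injective (h.trans (map_one e).symm)), by rw [← map_mul, hy2, map_one]⟩, ?_⟩
  let Φ : MulAut P →* MulAut Q :=
    { toFun := fun k => e.symm.trans (k.trans e)
      map_one' := by ext z; simp
      map_mul' := fun k l => by ext z; simp }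
  have hΦ : ∀ k z, Φ k (e z) = e (k z) := fun k z => by simp [Φ]
  refine ⟨K.map Φ, ?_, fun u v hu hu2 hv hv2 => ?_⟩
  · exact isCyclic_of_surjective (Φ.subgroupMap K) (Φ.subgroupMap_surjective K)
  · obtain ⟨u, rfl⟩ := e.surjective u
    obtain ⟨v, rfl⟩ := e.surjective v
    obtain ⟨k, hk, huniq⟩ := hreg u v (fun h => hu (by rw [h, map_one]))
      (e.injective (by rw [map_mul, map_one, hu2])) (fun h => hv (by rw [h, map_one]))
      (e.injective (by rw [map_mul, map_one, hv2]))
    refine ⟨⟨Φ k, k, k.2, rfl⟩, by show Φ k (e u) = e v; rw [hΦ, hk], ?_⟩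
    rintro ⟨_, l, hl, rfl⟩ h'
    change Φ l (e u) = e v at h'
    rw [hΦ] at h'
    have := huniq ⟨l, hl⟩ (e.injective h')
    exact Subtype.ext (by rw [← this])

section

variable {q : ℕ} {F : Type*} [Field F] [Fintype F] [CharP F 2] (hF : Fintype.card F = q ^ 2)

omit [CharP F 2] in
/-- The radical of `PSU_3(q)` has order `q³`. -/
theorem card_Ugrp {S : Finset (Fin 3)} {e f : Fin 3 → F} (h : HPair q e f) (hS : Frame q S e f)
    (hS2 : S.card = 2) : Nat.card (Ugrp hF h) = q ^ 3 := by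
  classical
  obtain ⟨k, hk⟩ : ∃ k, Sᶜ = {k} := Finset.card_eq_one.1 (by rw [Finset.card_compl, hS2]; simp)
  have hkS : k ∉ S := by
    have : k ∈ Sᶜ := by rw [hk]; simp
    simpa using this
  have horth : ∀ x : F, Orth2 q e f (x • eI k) := fun x =>
    (hS _).2 ((supp S).smul_mem x (eI_mem_supp hkS))
  have hself : ∀ x : F, herm q (x • (eI k : Fin 3 → F)) (x • eI k) = x ^ (q + 1) := fun x => by
    rw [herm_smul_left, herm_smul_right hF, herm_eI_eI hF, if_pos rfl, mul_one, pow_succ']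
  have hrep : ∀ w, Orth2 q e f w → w = w k • eI k := by
    intro w hw
    funext i
    by_cases hi : i = k
    · subst hi; simp [eI]
    · have hiS : i ∈ S := by
        by_contra hh
        have : i ∈ Sᶜ := Finset.mem_compl.2 hh
        rw [hk, Finset.mem_singleton] at this
        exact hi this
      rw [(hS w).1 hw i hiS]
      simp [eI, hi]
  let T := (x : F) × {b : F // b + b ^ q = -(x ^ (q + 1))}
  let φ : T → Ugrp hF h := fun t =>
    ⟨piU 3 F q (Qel hF h.ee (horth t.1).1 (b := t.2.1) (by rw [hself]; exact t.2.2)),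
      t.1 • eI k, horth t.1, t.2.1, _, rfl⟩
  have hφ : Function.Bijective φ := by
    constructor
    · rintro ⟨x, b⟩ ⟨x', b'⟩ he
      have h1 := piU_Qel_eq hF (by norm_num) h.e_ne (congrArg Subtype.val he)
      obtain ⟨hw, hb⟩ := Qel_inj hF h (horth x) (horth x') h1
      have hx : x = x' := by simpa [eI] using congrFun hw k
      subst hx
      exact Sigma.ext rfl (heq_of_eq (Subtype.ext hb))
    · rintro ⟨y, w, hw, b, hb, rfl⟩
      refine ⟨⟨w k, b, ?_⟩, Subtype.ext (congrArg (piU 3 F q) (Qel_congr hF h.ee _ _ _ _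
        (hrep w hw).symm rfl))⟩
      rw [hb, hrep w hw, hself]
      simp [eI]
  rw [← Nat.card_congr (Equiv.ofBijective φ hφ)]
  have hfib : ∀ x : F, Nat.card {b : F // b + b ^ q = -(x ^ (q + 1))} = q := by
    intro x
    obtain ⟨b0, hb0⟩ := exists_trace_eq hF (t := -(x ^ (q + 1)))
      (by rw [neg_pow_q hF, norm_fixed hF])
    conv_rhs => rw [← card_trace_ker hF]
    refine Nat.card_congr (Equiv.subtypeEquiv (Equiv.subRight b0) fun b => ?_)
    show _ ↔ (b - b0) + (b - b0) ^ q = 0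
    rw [sub_pow_q hF]
    constructor
    · intro hh; linear_combination hh - hb0
    · intro hh; linear_combination hh + hb0
  show Nat.card ((x : F) × {b : F // b + b ^ q = -(x ^ (q + 1))}) = q ^ 3
  rw [Nat.card_sigma, Finset.sum_congr rfl fun x _ => hfib x, Finset.sum_const, Finset.card_univ,
    hF, smul_eq_mul, ← pow_succ]

/-- The radical is a Suzuki 2-group with centre of order `q`. -/
theorem ugrp_suzuki {n : ℕ} (hn : 2 ≤ n) (hq : q = 2 ^ n) {S : Finset (Fin 3)} {e f : Fin 3 → F}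
    (h : HPair q e f) (hS : Frame q S e f) (hS2 : S.card = 2)
    (P : Sylow 2 (PSU 3 F q)) (hP : (P : Subgroup (PSU 3 F q)) = Ugrp hF h) :
    Nat.card (Subgroup.center P) = q ∧ Cfsg.IsSuzukiTwoGroup P := by
  classical
  have : Fact (Nat.Prime 2) := ⟨Nat.prime_two⟩
  have hq4 : 4 ≤ q := by
    rw [hq]
    exact le_trans (show 4 ≤ 2 ^ 2 by norm_num) (Nat.pow_le_pow_right (by norm_num) hn)
  have h2 : ∀ t : F, t + t = 0 := CharTwo.add_self_eq_zero
  -- the centre
  have hcen := center_sylow hF 2 (by norm_num) h P hP.ge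
  have hT : ∀ c : F, c + c ^ q = 0 ↔ c ^ q = c := fun c => by
    rw [CharTwo.add_eq_zero]; exact eq_comm
  have htv : ∀ {c c' : F} (hc : c + c ^ q = 0) (hc' : c' + c' ^ q = 0),
      piU 3 F q (tv hF h.ee hc) = piU 3 F q (tv hF h.ee hc') → c = c' := by
    intro c c' hc hc' he
    have h1 := piU_Qel_eq hF (by norm_num) (u := e) (u' := e) (w := 0) (w' := 0)
      (hb := tv_cond hc) (hb' := tv_cond hc') (hu := h.ee) (hu' := h.ee)
      (hwu := herm_zero_left e) (hwu' := herm_zero_left e) h.e_ne he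
    exact (Qel_inj hF h (orth2_zero e f) (orth2_zero e f) h1).2
  have hcard : Nat.card (Subgroup.center P) = q := by
    have e0 := Nat.card_congr ((Subgroup.center P).equivMapOfInjective _
      (Subgroup.subtype_injective (P : Subgroup (PSU 3 F q)))).toEquiv
    rw [hcen] at e0
    refine e0.trans ?_
    conv_rhs => rw [← card_trace_ker hF]
    refine (Nat.card_congr (Equiv.ofBijective
      (fun c : {x : F // x + x ^ q = 0} =>
        (⟨piU 3 F q (tv hF h.ee c.2), tv_mem_Tgrp hF h.ee c.2⟩ : Tgrp hF h.ee)) ⟨?_, ?_⟩)).symm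
    · intro c c' he
      exact Subtype.ext (htv c.2 c'.2 (congrArg Subtype.val he))
    · rintro ⟨x, hx⟩
      obtain ⟨c, hc, rfl⟩ := (mem_Tgrp hF).1 hx
      exact ⟨⟨c, hc⟩, rfl⟩
  refine ⟨hcard, inferInstance, P.isPGroup', ?_, ?_, ?_⟩
  · -- non-abelian
    by_contra hc
    have htop : Subgroup.center P = ⊤ := eq_top_iff.2 fun x _ =>
      Subgroup.mem_center_iff.2 fun y => by
        by_contra hne
        exact hc ⟨y, x, hne⟩
    rw [htop, Subgroup.card_top] at hcard
    have : Nat.card (Ugrp hF h) = q := by rw [← hP]; exact hcard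
    rw [card_Ugrp hF h hS hS2] at this
    nlinarith [Nat.mul_le_mul hq4 hq4]
  -- every involution is a transvection
  all_goals
    have hinv : ∀ x : P, x ≠ 1 → x * x = 1 →
        ∃ (c : F) (hc : c + c ^ q = 0), c ≠ 0 ∧ (x : PSU 3 F q) = piU 3 F q (tv hF h.ee hc) := by
      rintro ⟨x, hx⟩ hx1 hx2
      obtain ⟨w, hw, b, hb, rfl⟩ := hP.le hx
      have hsq : piU 3 F q (Qel hF h.ee hw.1 hb * Qel hF h.ee hw.1 hb) = 1 := by
        rw [map_mul]; exact congrArg Subtype.val hx2
      rw [Qel_mul_Qel hF h.ee hw.1 hb hw.1 hb (Qel_add_cond hF hb hb)] at hsq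
      have hww : herm q w w = 0 := by
        have h1 : tv hF h.ee (show (0 : F) + 0 ^ q = 0 by rw [zero_pow_q hF, add_zero]) = 1 :=
          eq_of_smul_eq_SU fun z => by rw [tv_smul, one_smul]; simp
        rw [← map_one (piU 3 F q), ← h1] at hsq
        have h3 := piU_Qel_eq hF (by norm_num) h.e_ne hsq
        have h4 := (Qel_inj hF h (hw.add hw) (orth2_zero e f) h3).2
        linear_combination -h4 + h2 b
      have hw0 : w = 0 := by
        obtain ⟨k, hk⟩ : ∃ k, Sᶜ = {k} :=
          Finset.card_eq_one.1 (by rw [Finset.card_compl, hS2]; simp)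
        funext i
        by_cases hi : i ∈ S
        · exact (hS w).1 hw i hi
        · have hsum : herm q w w = w i * w i ^ q := by
            rw [herm, hermForm, Finset.sum_eq_single i]
            · intro j _ hj
              by_cases hjS : j ∈ S
              · rw [(hS w).1 hw j hjS, zero_mul]
              · exfalso
                have hi' : i ∈ Sᶜ := Finset.mem_compl.2 hi
                have hj' : j ∈ Sᶜ := Finset.mem_compl.2 hjS
                rw [hk, Finset.mem_singleton] at hi' hj'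
                exact hj (hj'.trans hi'.symm)
            · intro hh; exact absurd (Finset.mem_univ i) hh
          rw [hww, ← pow_succ'] at hsum
          exact (pow_eq_zero_iff (Nat.succ_ne_zero q)).1 hsum.symm
      subst hw0
      have hb0 : b + b ^ q = 0 := by rw [hb, herm_zero_left, neg_zero]
      refine ⟨b, hb0, fun hb' => hx1 (Subtype.ext ?_), rfl⟩
      show piU 3 F q (tv hF h.ee hb0) = 1
      rw [← map_one (piU 3 F q)]
      refine congrArg _ (eq_of_smul_eq_SU fun z => ?_)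
      rw [tv_smul, one_smul, hb']
      simp
    have hmk : ∀ {c : F} (hc : c + c ^ q = 0), piU 3 F q (tv hF h.ee hc) ∈ P := fun hc =>
      hP.ge (Tgrp_le_Ugrp hF h (tv_mem_Tgrp hF h.ee hc))
    have hne1 : ∀ {c : F} (hc : c + c ^ q = 0), c ≠ 0 →
        (⟨_, hmk hc⟩ : P) ≠ 1 ∧ (⟨_, hmk hc⟩ : P) * ⟨_, hmk hc⟩ = 1 := by
      intro c hc hc0
      have h00 : (0 : F) + 0 ^ q = 0 := by rw [zero_pow_q hF, add_zero]
      have h1 : tv hF h.ee h00 = 1 :=
        eq_of_smul_eq_SU fun z => by rw [tv_smul, one_smul]; simp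
      refine ⟨fun he => hc0 (htv hc h00 (by rw [h1, map_one]; exact congrArg Subtype.val he)),
        Subtype.ext ?_⟩
      show piU 3 F q (tv hF h.ee hc) * piU 3 F q (tv hF h.ee hc) = 1
      rw [← map_mul, ← map_one (piU 3 F q)]
      refine congrArg _ (eq_of_smul_eq_SU fun z => ?_)
      rw [mul_smul, tv_smul, tv_smul, one_smul, herm_add_left, herm_smul_left, h.ee, mul_zero,
        add_zero, add_assoc, ← add_smul, h2, zero_smul, add_zero]
  · -- two involutions
    obtain ⟨ζ, hζ⟩ := IsCyclic.exists_generator (α := Fˣ)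
    set μ : F := ((ζ ^ (q + 1) : Fˣ) : F) with hμ
    have hord : orderOf ζ = q ^ 2 - 1 := by
      rw [orderOf_eq_card_of_forall_mem_zpowers hζ, Nat.card_eq_fintype_card, Fintype.card_units, hF]
    have hμq : μ ^ q = μ := by
      rw [hμ, Units.val_pow_eq_pow_val]; exact norm_fixed hF _
    have hμ1 : μ ≠ 1 := by
      intro h1
      have h2' : ζ ^ (q + 1) = 1 := Units.ext h1
      have h3 := Nat.le_of_dvd (by omega) (orderOf_dvd_of_pow_eq_one h2')
      rw [hord] at h3
      have : q * 4 ≤ q * q := Nat.mul_le_mul_left q hq4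
      rw [pow_two] at h3
      omega
    have h1c : (1 : F) + 1 ^ q = 0 := by rw [one_pow]; exact h2 1
    have hμc : μ + μ ^ q = 0 := by rw [hμq]; exact h2 μ
    refine ⟨⟨_, hmk h1c⟩, ⟨_, hmk hμc⟩,
      fun he => hμ1 (htv h1c hμc (congrArg Subtype.val he)).symm,
      (hne1 h1c one_ne_zero).1, (hne1 h1c one_ne_zero).2,
      (hne1 hμc (Units.ne_zero _)).1, (hne1 hμc (Units.ne_zero _)).2⟩
  · -- the torus
    obtain ⟨ζ, hζ⟩ := IsCyclic.exists_generator (α := Fˣ)
    set lu : Fˣ := ζ ^ (q + 1) with hlu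
    set l : F := (lu : F) with hl
    have hord : orderOf lu = q - 1 := by
      rw [hlu, orderOf_pow, orderOf_eq_card_of_forall_mem_zpowers hζ, Nat.card_eq_fintype_card,
        Fintype.card_units, hF]
      have e : q ^ 2 - 1 = (q + 1) * (q - 1) := by
        rw [← Nat.sq_sub_sq, one_pow]
      rw [e, Nat.gcd_mul_right_left, Nat.mul_div_cancel_left _ (by omega : 0 < q + 1)]
    have hlq : l ^ q = l := by rw [hl, hlu, Units.val_pow_eq_pow_val]; exact norm_fixed hF _
    have hl0 : l ≠ 0 := lu.ne_zero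
    obtain ⟨s, hse, hsf, hsw⟩ := exists_levi hF h (A := 1) (one_smul _ e) (one_smul _ f) hl0
      (by rw [hlq, mul_inv_cancel₀ hl0, mul_one]; simp)
    have hsO : ∀ w, Orth2 q e f w → s • w = w := fun w hw => (hsw w hw).trans (one_smul _ w)
    have hpow : ∀ i : ℕ, (s ^ i) • e = l ^ i • e ∧ (s ^ i) • f = (l⁻¹) ^ i • f ∧
        ∀ w, Orth2 q e f w → (s ^ i) • w = w := by
      intro i
      induction i with
      | zero => simp
      | succ i ih =>
        obtain ⟨i1, i2, i3⟩ := ih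
        refine ⟨?_, ?_, fun w hw => ?_⟩
        · rw [pow_succ', mul_smul, i1, smul_comm, hse, smul_smul, ← pow_succ]
        · rw [pow_succ', mul_smul, i2, smul_comm, hsf, hlq, smul_smul, ← pow_succ]
        · rw [pow_succ', mul_smul, i3 w hw, hsO w hw]
    have hs1 : s ^ (q - 1) = 1 := by
      refine eq_of_smul_eq_SU fun x => ?_
      obtain ⟨i1, i2, i3⟩ := hpow (q - 1)
      have hl1 : l ^ (q - 1) = 1 := by
        rw [hl, ← Units.val_pow_eq_pow_val, ← hord, pow_orderOf_eq_one, Units.val_one]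
      rw [eq_prj (q := q) e f x, one_smul, smul_add, smul_add, smul_comm (s ^ (q - 1)), i1,
        smul_comm (s ^ (q - 1)), i2, i3 _ (orth2_prj hF h x), inv_pow, hl1, inv_one, one_smul,
        one_smul]
    have hstab : piU 3 F q s ∈ stab (by norm_num) hF e :=
      (mem_stab hF (by norm_num)).2 ⟨l, hl0, hse⟩
    have hnorm : piU 3 F q s ∈ Subgroup.normalizer ((P : Subgroup (PSU 3 F q)) : Set (PSU 3 F q)) := by
      rw [hP]
      refine Subgroup.mem_set_normalizer_iff.2 fun y => ⟨fun hy =>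
        conj_mem_Ugrp hF (by norm_num) h hstab hy, fun hy => ?_⟩
      have := conj_mem_Ugrp hF (by norm_num) h (inv_mem hstab) hy
      simpa [mul_assoc] using this
    let ψ : MulAut P := MulEquiv.mk
      { toFun := fun x => ⟨piU 3 F q s * x * (piU 3 F q s)⁻¹,
          (Subgroup.mem_set_normalizer_iff.1 hnorm x).1 x.2⟩
        invFun := fun x => ⟨(piU 3 F q s)⁻¹ * x * piU 3 F q s, by
          refine (Subgroup.mem_set_normalizer_iff.1 hnorm _).2 ?_
          simp [mul_assoc]⟩
        left_inv := fun x => Subtype.ext (by simp [mul_assoc])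
        right_inv := fun x => Subtype.ext (by simp [mul_assoc]) }
      (fun x y => Subtype.ext (by simp [mul_assoc]))
    have hψ : ∀ (i : ℕ) (x : P),
        (((ψ ^ i) x : P) : PSU 3 F q) = piU 3 F q (s ^ i) * x * (piU 3 F q (s ^ i))⁻¹ := by
      intro i
      induction i with
      | zero => intro x; simp
      | succ i ih =>
        intro x
        rw [pow_succ', pow_succ' s, MulAut.mul_apply, map_mul]
        show piU 3 F q s * ((ψ ^ i) x : P) * (piU 3 F q s)⁻¹ = _
        rw [ih x]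
        group
    have hψ1 : ψ ^ (q - 1) = 1 := by
      refine MulEquiv.ext fun x => Subtype.ext ?_
      rw [hψ, hs1, map_one, one_mul, inv_one, mul_one]
      rfl
    have hcond : ∀ (i : ℕ) {c : F}, c + c ^ q = 0 →
        l ^ (2 * i) * c + (l ^ (2 * i) * c) ^ q = 0 := fun i c hc => by
      rw [mul_pow, pow_right_comm, hlq]
      linear_combination (l ^ (2 * i)) * hc
    have hact : ∀ (i : ℕ) {c : F} (hc : c + c ^ q = 0),
        (((ψ ^ i) ⟨_, hmk hc⟩ : P) : PSU 3 F q) = piU 3 F q (tv hF h.ee (hcond i hc)) := by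
      intro i c hc
      rw [hψ, ← map_inv, ← map_mul, ← map_mul, conj_tv]
      refine congrArg _ (eq_of_smul_eq_SU fun z => ?_)
      rw [tv_smul, tv_smul, (hpow i).1, herm_smul_right hF, smul_smul, pow_right_comm, hlq]
      congr 2
      ring
    have hlu2 : orderOf (lu ^ 2) = q - 1 := by
      rw [orderOf_pow, hord, Nat.Coprime.gcd_eq_one, Nat.div_one]
      rw [Nat.coprime_two_right, hq]
      exact Nat.Even.sub_odd Nat.one_le_two_pow
        ((Nat.even_pow).2 ⟨even_two, by omega⟩) odd_one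
    refine ⟨Subgroup.zpowers ψ, inferInstance, fun x y hx hx2 hy hy2 => ?_⟩
    obtain ⟨c, hc, hc0, hcx⟩ := hinv x hx hx2
    obtain ⟨c', hc', hc0', hcy⟩ := hinv y hy hy2
    have hfin : IsOfFinOrder ψ := isOfFinOrder_iff_pow_eq_one.2 ⟨q - 1, by omega, hψ1⟩
    obtain rfl : x = ⟨_, hmk hc⟩ := Subtype.ext hcx
    have hquot : (Units.mk0 (c' / c) (div_ne_zero hc0' hc0)) ^ (q - 1) = 1 := by
      refine Units.ext ?_
      rw [Units.val_pow_eq_pow_val, Units.val_mk0, Units.val_one,
        pow_q_sub_one hF (div_ne_zero hc0' hc0), div_pow, (hT c').1 hc', (hT c).1 hc,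
        div_self (div_ne_zero hc0' hc0)]
    have : NeZero (q - 1) := ⟨by omega⟩
    have hprim : IsPrimitiveRoot ((lu ^ 2 : Fˣ) : F) (q - 1) :=
      IsPrimitiveRoot.coe_units_iff.2 (hlu2 ▸ IsPrimitiveRoot.orderOf (lu ^ 2))
    obtain ⟨i, -, hi⟩ := hprim.eq_pow_of_pow_eq_one
      (show ((c' / c) : F) ^ (q - 1) = 1 by simpa using congrArg Units.val hquot)
    have hiy : (ψ ^ i) ⟨_, hmk hc⟩ = y := by
      refine Subtype.ext ?_
      rw [hact, hcy]
      refine congrArg _ (eq_of_smul_eq_SU fun z => ?_)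
      have hi' : l ^ (2 * i) * c = c' := by
        rw [Units.val_pow_eq_pow_val, ← pow_mul] at hi
        rw [hi, div_mul_cancel₀ c' hc0]
      rw [tv_smul, tv_smul, hi']
    refine ⟨⟨ψ ^ i, Subgroup.pow_mem _ (Subgroup.mem_zpowers ψ) i⟩, hiy, ?_⟩
    rintro ⟨k, hk⟩ hk'
    obtain ⟨j, rfl⟩ := (IsOfFinOrder.mem_powers_iff_mem_zpowers hfin).2 hk
    apply Subtype.ext
    show ψ ^ j = ψ ^ i
    have h1 : (ψ ^ j) ⟨_, hmk hc⟩ = (ψ ^ i) ⟨_, hmk hc⟩ := hk'.trans hiy.symm
    have h2' := congrArg Subtype.val h1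
    rw [hact, hact] at h2'
    have h3 := htv _ _ h2'
    have h4 : (lu ^ 2) ^ j = (lu ^ 2) ^ i := Units.ext (by
      simp only [Units.val_pow_eq_pow_val, ← pow_mul]
      exact mul_right_cancel₀ hc0 h3)
    have h5 := pow_eq_pow_iff_modEq.1 h4
    rw [hlu2] at h5
    exact pow_eq_pow_iff_modEq.2 (h5.of_dvd (orderOf_dvd_of_pow_eq_one hψ1))

include hF in
/-- A Sylow 2-subgroup of `PSU_3(2^n)`. -/
theorem psu_sylow {n : ℕ} (hn : 2 ≤ n) (hq : q = 2 ^ n) (S : Sylow 2 (PSU 3 F q)) :
    Nat.card S = q ^ 3 ∧ Nat.card (Subgroup.center S) = q ∧ Cfsg.IsSuzukiTwoGroup S := by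
  classical
  have : Fact (Nat.Prime 2) := ⟨Nat.prime_two⟩
  obtain ⟨T, e, f, h, hT, hT2⟩ := exists_frame hF (le_refl 3)
  obtain ⟨P, hP⟩ := (isPGroup_Ugrp hF 2 h).exists_le_sylow
  have hU := card_Ugrp hF h hT hT2
  obtain ⟨a, ha⟩ := (IsPGroup.iff_card (p := 2)).1 P.isPGroup'
  have hdvd : 2 ^ a ∣ Nat.card (PSU 3 F q) := ha ▸ Subgroup.card_subgroup_dvd_card _
  have hbig := card_PSU hF (n := 3) (by norm_num)
  have hcop : Nat.Coprime (2 ^ a) ((q + 1) * ((q ^ 2 - 1) * (q ^ 3 + 1))) := by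
    refine Nat.Coprime.pow_left _ (Nat.coprime_two_left.2 ?_)
    have he : ∀ i : ℕ, 1 ≤ i → Even (q ^ i) := fun i hi => by
      rw [hq, ← pow_mul]
      exact (Nat.even_pow).2 ⟨even_two, Nat.mul_ne_zero (by omega) (by omega)⟩
    have h1 : Odd (q + 1) := by simpa using (he 1 le_rfl).add_odd odd_one
    have h2 : Odd (q ^ 2 - 1) :=
      Nat.Even.sub_odd (Nat.one_le_pow _ _ (by rw [hq]; positivity)) (he 2 (by omega)) odd_one
    have h3 : Odd (q ^ 3 + 1) := (he 3 (by omega)).add_odd odd_one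
    exact h1.mul (h2.mul h3)
  have hprod : 2 ^ a ∣ q ^ 3 * ((q + 1) * ((q ^ 2 - 1) * (q ^ 3 + 1))) := by
    have e2 : q ^ 3 * ((q + 1) * ((q ^ 2 - 1) * (q ^ 3 + 1))) =
        Nat.gcd 3 (q + 1) * ((q + 1) * Nat.card (PSU 3 F q)) := by
      refine Eq.trans ?_ hbig.symm
      simp [Finset.prod_range_succ, Nat.even_iff]
      exact Or.inl (by ring)
    rw [e2]
    exact (hdvd.mul_left _).mul_left _
  have hle : 2 ^ a ≤ q ^ 3 :=
    Nat.le_of_dvd (pow_pos (by rw [hq]; positivity) _) (hcop.dvd_of_dvd_mul_right hprod)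
  have heq : Ugrp hF h = (P : Subgroup (PSU 3 F q)) :=
    Subgroup.eq_of_le_of_card_ge hP (by rw [hU]; exact ha.le.trans hle)
  obtain ⟨hc, hz⟩ := ugrp_suzuki hF hn hq h hT hT2 P heq.symm
  have eS : P ≃* S := P.equiv S
  refine ⟨?_, ?_, isSuzukiTwoGroup_congr eS hz⟩
  · rw [← Nat.card_congr eS.toEquiv, ← hU, heq]
  · refine Eq.trans ?_ hc
    exact (Nat.card_congr (Subgroup.centerCongr eS).toEquiv).symm

end

end Cfsg.Agent.SuzukiTwo
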