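import Mathlib
import Cfsg.Agent.Lib.SuzukiTwo.Order
import Cfsg.Agent.Lib.SuzukiTwo.Extension
import Cfsg.Agent.Lib.RankOne.FieldAut

/-!
A Suzuki 2-group of order `|Z|²` is of type A.
-/

set_option autoImplicit false

namespace Cfsg.Agent.SuzukiTwo

open scoped commutatorElement

section matrices

variable {F : Type*} [Field F] [CharP F 2] (φ : F →+* F)

/-- The lower unitriangular matrix with rows `(1,0,0)`, `(x,1,0)`, `(y, φ x, 1)`. -/
def typeAMat (x y : F) : GL (Fin 3) F :=
  ⟨!![1, 0, 0; x, 1, 0; y, φ x, 1], !![1, 0, 0; x, 1, 0; y + φ x * x, φ x, 1], by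
    ext i j
    fin_cases i <;> fin_cases j <;> simp [Matrix.mul_apply, Fin.sum_univ_three] <;>
      first
        | exact CharTwo.add_self_eq_zero _
        | linear_combination CharTwo.add_self_eq_zero (y + φ x * x), by
    ext i j
    fin_cases i <;> fin_cases j <;> simp [Matrix.mul_apply, Fin.sum_univ_three] <;>
      first
        | exact CharTwo.add_self_eq_zero _
        | linear_combination CharTwo.add_self_eq_zero (y + φ x * x)⟩

lemma typeAMat_mul (x y x' y' : F) :
    typeAMat φ x y * typeAMat φ x' y' = typeAMat φ (x + x') (y + y' + φ x * x') := by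
  ext i j
  fin_cases i <;> fin_cases j <;>
    simp [typeAMat, Matrix.mul_apply, Fin.sum_univ_three, map_add] <;> ring

lemma typeAMat_zero : typeAMat φ 0 0 = 1 := by
  ext i j
  fin_cases i <;> fin_cases j <;> simp [typeAMat]

lemma typeAMat_inj {x y x' y' : F} (h : typeAMat φ x y = typeAMat φ x' y') : x = x' ∧ y = y' := by
  have h1 := congrArg (fun g : GL (Fin 3) F => (g : Matrix (Fin 3) (Fin 3) F) 1 0) h
  have h2 := congrArg (fun g : GL (Fin 3) F => (g : Matrix (Fin 3) (Fin 3) F) 2 0) h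
  simp [typeAMat] at h1 h2
  exact ⟨h1, h2⟩

lemma suzukiTypeA_mem {g : GL (Fin 3) F} :
    g ∈ Cfsg.suzukiTypeA F φ ↔ ∃ x y, typeAMat φ x y = g := by
  constructor
  · intro hg
    induction hg using Subgroup.closure_induction with
    | mem g hg =>
      obtain ⟨x, y, h⟩ := hg
      exact ⟨x, y, Units.ext (by rw [h]; rfl)⟩
    | one => exact ⟨0, 0, typeAMat_zero φ⟩
    | mul a b _ _ ha hb =>
      obtain ⟨x, y, rfl⟩ := ha
      obtain ⟨x', y', rfl⟩ := hb
      exact ⟨_, _, (typeAMat_mul φ x y x' y').symm⟩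
    | inv a _ ha =>
      obtain ⟨x, y, rfl⟩ := ha
      refine ⟨x, y + φ x * x, eq_inv_of_mul_eq_one_left ?_⟩
      rw [typeAMat_mul, CharTwo.add_self_eq_zero,
        show y + φ x * x + y + φ x * x = (y + φ x * x) + (y + φ x * x) by ring,
        CharTwo.add_self_eq_zero]
      exact typeAMat_zero φ
  · rintro ⟨x, y, rfl⟩
    exact Subgroup.subset_closure ⟨x, y, rfl⟩

end matrices

namespace Frame

variable {P : Type*} [Group P] {F : Type} [Field F] (fr : Frame P F)
variable [Finite P] [Fintype F] [CharP F 2] (hP : IsPGroup 2 P)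
  (hna : ∃ x y : P, x * y ≠ y * x) {u0 : Fˣ} (hu0 : u0 ≠ 1)
include fr hP hna hu0

/-- Equivariant additive coordinates on `P ⧸ Z(P)`. -/
lemma exists_coord (hq : 4 ≤ Fintype.card F) (hcard : Nat.card P = Fintype.card F ^ 2) :
    ∃ (c : P → F) (χ : Fˣ → Fˣ), (∀ x y, c (x * y) = c x + c y) ∧ (∀ a, ∃ x, c x = a) ∧
      (∀ x, c x = 0 ↔ x ∈ Subgroup.center P) ∧ Function.Bijective χ ∧
      (∀ u v, χ (u * v) = χ u * χ v) ∧ ∀ u x, c (fr.act u x) = (χ u : F) * c x := by
  classical
  set Z := Subgroup.center P with hZ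
  have hVcard : Nat.card (P ⧸ Z) = Fintype.card F := by
    have := Subgroup.card_eq_card_quotient_mul_card_subgroup Z
    rw [fr.card_center hP hna hu0, hcard, pow_two] at this
    exact (mul_right_cancel₀ (by positivity) this).symm
  have hmap : ∀ u : Fˣ, Subgroup.map (fr.act u : P →* P) Z = Z := by
    intro u
    refine le_antisymm ?_ fun z hz => ⟨fr.act u⁻¹ z, fr.center_inv _ z hz, fr.act_act_inv u z⟩
    rintro _ ⟨z, hz, rfl⟩
    exact fr.center_inv u z hz
  let ψ : Fˣ →* MulAut (P ⧸ Z) :=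
    { toFun := fun u => QuotientGroup.congr Z Z (fr.act u) (hmap u)
      map_one' := MulEquiv.ext fun v => by
        obtain ⟨x, rfl⟩ := QuotientGroup.mk_surjective v
        simp
      map_mul' := fun a b => MulEquiv.ext fun v => by
        obtain ⟨x, rfl⟩ := QuotientGroup.mk_surjective v
        simp }
  have hψ : ∀ u (x : P), ψ u (x : P ⧸ Z) = ((fr.act u x : P) : P ⧸ Z) := fun u x => rfl
  have hfree : ∀ u (v : P ⧸ Z), v ≠ 1 → ψ u v = v → u = 1 := by
    intro u v hv h
    obtain ⟨x, rfl⟩ := QuotientGroup.mk_surjective v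
    by_contra hu
    rw [hψ, eq_comm, QuotientGroup.eq] at h
    exact hv ((QuotientGroup.eq_one_iff x).2 (fr.mem_of_coset_fixed hP hu fr.center_inv h))
  have hsq : ∀ v : P ⧸ Z, v * v = 1 := by
    intro v
    obtain ⟨x, rfl⟩ := QuotientGroup.mk_surjective v
    rw [← QuotientGroup.mk_mul, QuotientGroup.eq_one_iff]
    exact fr.sq_mem_center hP hna hu0 x
  let : Fintype (P ⧸ Z) := Fintype.ofFinite _
  rw [Nat.card_eq_fintype_card] at hVcard
  have htrans : ∀ v w : P ⧸ Z, v ≠ 1 → w ≠ 1 → ∃ u, ψ u v = w := by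
    intro v w hv hw
    have hinj : Function.Injective (fun u : Fˣ =>
        (⟨ψ u v, fun h => hv ((ψ u).injective (h.trans (map_one (ψ u)).symm))⟩ :
          {w : P ⧸ Z // w ≠ 1})) := by
      intro a b h
      have h' : ψ a v = ψ b v := congrArg Subtype.val h
      have := hfree (a⁻¹ * b) v hv (by
        rw [map_mul, MulAut.mul_apply, ← h', ← MulAut.mul_apply, ← map_mul, inv_mul_cancel,
          map_one, MulAut.one_apply])
      exact (inv_mul_eq_one.1 this)
    have hb := ((Fintype.bijective_iff_injective_and_card _).2 ⟨hinj, by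
      rw [Fintype.card_units, Fintype.card_subtype_compl, Fintype.card_subtype_eq, hVcard]⟩)
    obtain ⟨u, hu⟩ := hb.2 ⟨w, hw⟩
    exact ⟨u, congrArg Subtype.val hu⟩
  have htwo : ∃ x y : P ⧸ Z, x ≠ y ∧ x ≠ 1 ∧ x * x = 1 ∧ y ≠ 1 ∧ y * y = 1 := by
    obtain ⟨x, hx⟩ : ∃ x : P ⧸ Z, x ≠ 1 := Fintype.exists_ne_of_one_lt_card (by omega) 1
    refine ⟨x, ψ u0 x, fun h => hu0 (hfree u0 x hx h.symm), hx, hsq x,
      fun h => hx ((ψ u0).injective (h.trans (map_one (ψ u0)).symm)), hsq _⟩
  have hcyc : IsCyclic ψ.range := isCyclic_of_surjective ψ.rangeRestrict ψ.rangeRestrict_surjective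
  obtain ⟨F1, _, _, _, fr1, -, hall⟩ := exists_frame_of (hP.to_quotient Z) htwo ψ.range hcyc (by
    intro v w hv _ hw _
    obtain ⟨u, hu⟩ := htrans v w hv hw
    refine ⟨⟨ψ u, ⟨u, rfl⟩⟩, hu, ?_⟩
    rintro ⟨_, u', rfl⟩ h'
    have := hfree (u⁻¹ * u') v hv (by
      rw [map_mul, MulAut.mul_apply, h', ← hu, ← MulAut.mul_apply, ← map_mul, inv_mul_cancel,
        map_one, MulAut.one_apply])
    rw [inv_mul_eq_one] at this
    exact Subtype.ext (by rw [this]))
  have hbij : Function.Bijective fr1.emb :=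
    ⟨fr1.emb_inj, fun v => (fr1.emb_range v).1 (hsq v)⟩
  let j : F1 ≃+* F := FiniteField.ringEquivOfCardEq
    (by rw [Fintype.card_congr (Equiv.ofBijective _ hbij), hVcard])
  choose χ1 hχ1 using fun u => hall (ψ u) ⟨u, rfl⟩
  refine ⟨fun x => j (fr1.log (x : P ⧸ Z)), fun u => Units.map (j : F1 →* F) (χ1 u), ?_, ?_, ?_, ?_,
    ?_, ?_⟩
  · intro x y
    show j (fr1.log ((x * y : P) : P ⧸ Z)) = j _ + j _
    rw [QuotientGroup.mk_mul, fr1.log_mul (hsq _) (hsq _), map_add]
  · intro a
    obtain ⟨x, hx⟩ := QuotientGroup.mk_surjective (fr1.emb (j.symm a))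
    refine ⟨x, ?_⟩
    show j (fr1.log (x : P ⧸ Z)) = a
    rw [hx, fr1.log_emb, j.apply_symm_apply]
  · intro x
    show j (fr1.log (x : P ⧸ Z)) = 0 ↔ _
    rw [map_eq_zero, fr1.log_eq_zero (hsq _), QuotientGroup.eq_one_iff]
  · refine Finite.injective_iff_bijective.1 fun a b h => ?_
    have h' : χ1 a = χ1 b := Units.map_injective (f := (j : F1 →* F)) j.injective h
    obtain ⟨x, hx⟩ : ∃ x : P ⧸ Z, x ≠ 1 := Fintype.exists_ne_of_one_lt_card (by omega) 1
    have h2 : ψ (a⁻¹ * b) x = x := by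
      rw [map_mul, MulAut.mul_apply, ← hχ1 b, ← h', hχ1 a, ← MulAut.mul_apply, ← map_mul,
        inv_mul_cancel, map_one, MulAut.one_apply]
    exact inv_mul_eq_one.1 (hfree _ x hx h2)
  · intro a b
    have key : χ1 (a * b) = χ1 a * χ1 b := by
      refine Units.ext ?_
      have e2 : fr1.act (χ1 (a * b)) = fr1.act (χ1 a * χ1 b) := by
        rw [map_mul, hχ1, hχ1, hχ1, map_mul]
      have e3 := congrArg (fun f : MulAut (P ⧸ Z) => f (fr1.emb 1)) e2
      simp only [fr1.act_emb, mul_one] at e3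
      exact fr1.emb_inj e3
    show Units.map _ (χ1 (a * b)) = Units.map _ (χ1 a) * Units.map _ (χ1 b)
    rw [key, map_mul]
  · intro u x
    show j (fr1.log ((fr.act u x : P) : P ⧸ Z)) = j (χ1 u : F1) * j (fr1.log (x : P ⧸ Z))
    rw [← hψ, ← hχ1, fr1.log_act _ (hsq _), map_mul]

/-- A Suzuki 2-group of order `|Z|²` is of type A. -/
theorem typeA (hq : 4 ≤ Fintype.card F) (hcard : Nat.card P = Fintype.card F ^ 2) :
    ∃ φ : F ≃+* F, φ ≠ RingEquiv.refl F ∧ Odd (orderOf φ) ∧
      Nonempty (P ≃* Cfsg.suzukiTypeA F (φ : F →+* F)) := by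
  classical
  obtain ⟨c, χ, hcadd, hconto, hcker, hχ, hχmul, hcact⟩ := fr.exists_coord hP hna hu0 hq hcard
  set Z := Subgroup.center P with hZ
  have hZsq : ∀ z ∈ Z, z * z = 1 := fr.center_sq hP hna hu0
  choose s hs using hconto
  let Q : F → F := fun a => fr.log (s a * s a)
  have hQ : ∀ x, fr.log (x * x) = Q (c x) := by
    intro x
    have h1 := hcadd (s (c x)) ((s (c x))⁻¹ * x)
    rw [mul_inv_cancel_left, hs] at h1
    have hz : (s (c x))⁻¹ * x ∈ Z := (hcker _).1 (left_eq_add.1 h1)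
    show _ = fr.log (s (c x) * s (c x))
    set z := (s (c x))⁻¹ * x with hzdef
    conv_lhs => rw [show x = s (c x) * z by rw [hzdef, mul_inv_cancel_left]]
    rw [show s (c x) * z * (s (c x) * z) = s (c x) * (z * s (c x)) * z by group,
      ← Subgroup.mem_center_iff.1 hz,
      show s (c x) * (s (c x) * z) * z = s (c x) * s (c x) * (z * z) by group, hZsq z hz, mul_one]
  have hQ0 : ∀ a, Q a = 0 → a = 0 := by
    intro a ha
    rw [← hs a, hcker]
    exact (fr.mem_center_iff_sq hP hna hu0).2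
      ((fr.log_eq_zero (fr.sq_sq hP hna hu0 _)).1 ha)
  have hQz : Q 0 = 0 := by
    have h1 := hQ 1
    rw [mul_one, fr.log_one, (hcker 1).2 Z.one_mem] at h1
    exact h1.symm
  have hQscale : ∀ u a, Q ((χ u : F) * a) = (u : F) * Q a := by
    intro u a
    have h1 := hQ (fr.act u (s a))
    rw [hcact, hs, ← map_mul, fr.log_act u (fr.sq_sq hP hna hu0 _)] at h1
    exact h1.symm
  set e0 := Q 1 with he0
  have he0ne : e0 ≠ 0 := fun h => one_ne_zero (hQ0 1 h)
  let m : F → F := fun a => Q a / e0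
  have hmscale : ∀ u, m (χ u : F) = (u : F) := fun u => by
    show Q _ / e0 = _
    rw [← mul_one (χ u : F), hQscale, mul_div_assoc, div_self he0ne, mul_one]
  have hχsurj : ∀ a : F, a ≠ 0 → ∃ u, (χ u : F) = a := fun a ha => by
    obtain ⟨u, hu⟩ := hχ.2 (Units.mk0 a ha)
    exact ⟨u, congrArg Units.val hu⟩
  let mh : F →* F :=
    { toFun := m
      map_one' := div_self he0ne
      map_mul' := fun a b => by
        rcases eq_or_ne a 0 with rfl | ha
        · simp [m, hQz]
        obtain ⟨u, rfl⟩ := hχsurj a ha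
        rw [hmscale]
        show Q ((χ u : F) * b) / e0 = (u : F) * (Q b / e0)
        rw [hQscale, mul_div_assoc] }
  have hcomm : ∀ x y : P, fr.log ⁅x, y⁆ + Q (c x) + Q (c y) = Q (c x + c y) := by
    intro x y
    rw [← hcadd, ← hQ x, ← hQ y, ← hQ (x * y)]
    have hc := fr.commutator_mem_center hP hna hu0 y x
    have e : x * y * (x * y) = x * (⁅y, x⁆ * x * y) * y := by
      simp [commutatorElement_def, mul_assoc]
    have e2 : ⁅y, x⁆ = ⁅x, y⁆ := by
      rw [← commutatorElement_inv x y]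
      exact inv_eq_of_mul_eq_one_left (fr.comm_sq hP hna hu0 x y)
    rw [e, ← Subgroup.mem_center_iff.1 hc x,
      show x * (x * ⁅y, x⁆ * y) * y = (x * x) * (⁅y, x⁆ * (y * y)) by group, e2,
      fr.log_mul (fr.sq_sq hP hna hu0 x)
        (fr.mul_mem_invol (fr.comm_sq hP hna hu0 x y) (fr.sq_sq hP hna hu0 y)),
      fr.log_mul (fr.comm_sq hP hna hu0 x y) (fr.sq_sq hP hna hu0 y)]
    ring
  let β : F → F → F := fun a b => fr.log ⁅s a, s b⁆
  have hβ : ∀ a b, β a b = Q (a + b) + Q a + Q b := fun a b => by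
    have := hcomm (s a) (s b)
    rw [hs, hs] at this
    rw [← this]
    linear_combination -(CharTwo.add_self_eq_zero (Q a)) - (CharTwo.add_self_eq_zero (Q b))
  have hβwd : ∀ x y, fr.log ⁅x, y⁆ = Q (c x + c y) + Q (c x) + Q (c y) := fun x y => by
    rw [← hcomm x y]
    linear_combination -(CharTwo.add_self_eq_zero (Q (c x))) - (CharTwo.add_self_eq_zero (Q (c y)))
  have hβadd : ∀ a b d, β (a + b) d = β a d + β b d := by
    intro a b d
    have h1 := hβwd (s a * s b) (s d)
    rw [hcadd, hs, hs, hs, ← hβ, commutatorElement_mul_left_eq_conj_mul,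
      Subgroup.mem_center_iff.1 (fr.commutator_mem_center hP hna hu0 (s b) (s d)) (s a),
      mul_inv_cancel_right, fr.log_mul (fr.comm_sq hP hna hu0 _ _) (fr.comm_sq hP hna hu0 _ _)] at h1
    rw [← h1]
    exact add_comm _ _
  have hspan : m ∈ Submodule.span F (Set.range (RankOne.prodFun (F := F))) := by
    have : Finite (F ≃+* F) :=
      Finite.of_injective (fun τ : F ≃+* F => (τ : F → F)) DFunLike.coe_injective
    let : Fintype (F ≃+* F) := Fintype.ofFinite _
    refine RankOne.quadratic_mem_span m fun x y z => ?_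
    have h := hβadd x y z
    rw [hβ, hβ, hβ] at h
    have h2 : ∀ t : F, t + t = 0 := CharTwo.add_self_eq_zero
    simp only [m, ← add_div]
    rw [div_eq_zero_iff]
    left
    linear_combination h + h2 (Q (x + z)) + h2 (Q x) + h2 (Q y) + h2 (Q (y + z)) + h2 (Q z)
  obtain ⟨σ, τ, hστ⟩ : ∃ σ τ : F ≃+* F, ∀ x, m x = σ x * τ x := by
    by_contra hcon
    let S : Set (F →* F) :=
      Set.range fun p : (F ≃+* F) × (F ≃+* F) => (p.1 : F →* F) * (p.2 : F →* F)
    refine ((linearIndependent_monoidHom F F).notMem_span_image (s := S) (x := mh) ?_) ?_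
    · rintro ⟨⟨σ, τ⟩, h⟩
      exact hcon ⟨σ, τ, fun x => (DFunLike.congr_fun h x).symm⟩
    · refine (Submodule.span_mono ?_) hspan
      rintro _ ⟨p, rfl⟩
      exact ⟨_, ⟨p, rfl⟩, rfl⟩
  have hne : σ ≠ τ := by
    rintro rfl
    obtain ⟨x, y, hxy⟩ := hna
    refine hxy (commutatorElement_eq_one_iff_mul_comm.1
      ((fr.log_eq_zero (fr.comm_sq hP ⟨x, y, hxy⟩ hu0 x y)).1 ?_))
    rw [hβwd]
    have hQa : ∀ a, Q a = e0 * (σ a * σ a) := fun a => by
      rw [← hστ a]; show Q a = e0 * (Q a / e0)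
      rw [mul_div_cancel₀ _ he0ne]
    simp only [hQa, map_add]
    linear_combination (e0 * σ (c x) * σ (c x) + e0 * σ (c y) * σ (c y) + e0 * σ (c x) * σ (c y)) *
      (CharTwo.two_eq_zero : (2 : F) = 0)
  let φ : F ≃+* F := σ.symm.trans τ
  have hmφ : ∀ x, m x = σ x * φ (σ x) := fun x => by
    rw [hστ x]; simp [φ]
  have hφne : φ ≠ RingEquiv.refl F := fun h => hne (RingEquiv.ext fun x => by
    have := RingEquiv.congr_fun h (σ x)
    simpa [φ] using this.symm)
  have hinjm : ∀ a, a ≠ 0 → a * φ a = 1 → a = 1 := by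
    intro a ha h
    have hm : m (σ.symm a) = 1 := by rw [hmφ, σ.apply_symm_apply, h]
    obtain ⟨u, hu⟩ := hχsurj (σ.symm a) (by simpa using ha)
    rw [← hu, hmscale] at hm
    have hu1 : u = 1 := Units.ext hm
    have h1 : χ 1 = 1 := by
      have := hχmul 1 1
      rw [one_mul] at this
      exact left_eq_mul.1 this
    rw [hu1, h1, Units.val_one] at hu
    have := congrArg σ hu.symm
    rwa [σ.apply_symm_apply, map_one] at this
  refine ⟨φ, hφne, ?_, ?_⟩
  · -- odd order
    by_contra hodd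
    obtain ⟨k, hk⟩ := Nat.not_odd_iff_even.1 hodd
    have : Finite (F ≃+* F) :=
      Finite.of_injective (fun τ : F ≃+* F => (τ : F → F)) DFunLike.coe_injective
    let : Fintype (F ≃+* F) := Fintype.ofFinite _
    have hkpos : 0 < k := by
      have := orderOf_pos φ
      omega
    -- some sum over all powers is non-zero
    obtain ⟨z, hz⟩ : ∃ z, (∑ i ∈ Finset.range (k + k), (φ ^ i) z) ≠ 0 := by
      by_contra hc
      have hinj : Function.Injective (fun i : Fin (k + k) => φ ^ (i : ℕ)) := by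
        intro i j h
        exact Fin.ext (pow_injOn_Iio_orderOf (by rw [Set.mem_Iio, hk]; exact i.2)
          (by rw [Set.mem_Iio, hk]; exact j.2) h)
      have hli := (RankOne.autLinearIndependent (F := F)).comp _ hinj
      have hzero := Fintype.linearIndependent_iff.1 hli (fun _ => 1) ?_ ⟨0, by omega⟩
      · exact one_ne_zero hzero
      · funext x
        rw [not_exists] at hc
        have hx := not_not.1 (hc x)
        rw [← Fin.sum_univ_eq_sum_range (fun i => (φ ^ i) x) (k + k)] at hx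
        simpa [Finset.sum_apply] using hx
    set b := ∑ i ∈ Finset.range k, (φ ^ (2 * i)) z with hb
    have hpow : ∀ n x, φ ((φ ^ n) x) = (φ ^ (n + 1)) x := fun n x => by
      rw [pow_succ']; rfl
    have hb1 : ∀ l, (∑ i ∈ Finset.range l, (φ ^ (2 * i)) z) +
        φ (∑ i ∈ Finset.range l, (φ ^ (2 * i)) z) =
        ∑ i ∈ Finset.range (2 * l), (φ ^ i) z := by
      intro l
      induction l with
      | zero => simp
      | succ l ih =>
        rw [Finset.sum_range_succ, map_add, show 2 * (l + 1) = 2 * l + 1 + 1 by ring,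
          Finset.sum_range_succ _ (2 * l + 1), Finset.sum_range_succ _ (2 * l), hpow, ← ih]
        ring
    have hbne : b + φ b ≠ 0 := by
      rw [hb, hb1 k, two_mul]; exact hz
    have hbfix : φ (φ b) = b := by
      have h2 : φ (φ b) = ∑ i ∈ Finset.range k, (φ ^ (2 * (i + 1))) z := by
        rw [hb, map_sum, map_sum]
        refine Finset.sum_congr rfl fun i _ => ?_
        rw [hpow, hpow, show 2 * (i + 1) = 2 * i + 1 + 1 by ring]
      have h3 : (∑ i ∈ Finset.range k, (φ ^ (2 * (i + 1))) z) + (φ ^ (2 * 0)) z =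
          b + (φ ^ (2 * k)) z := by
        rw [← Finset.sum_range_succ' (fun i => (φ ^ (2 * i)) z) k, Finset.sum_range_succ, hb]
      rw [h2]
      rw [show 2 * k = orderOf φ by omega, pow_orderOf_eq_one, show 2 * 0 = 0 from rfl,
        pow_zero] at h3
      exact add_right_cancel h3
    have hb0 : b ≠ 0 := fun h => hbne (by rw [h, map_zero, add_zero])
    have ha1 : φ b / b ≠ 1 := fun h => hbne (by
      rw [div_eq_one_iff_eq hb0] at h
      rw [h]; exact CharTwo.add_self_eq_zero b)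
    have hφb : φ b ≠ 0 := by simpa using hb0
    refine ha1 (hinjm _ (div_ne_zero hφb hb0) ?_)
    rw [map_div₀, hbfix, div_mul_div_cancel₀' hφb, div_self hb0]
  · -- the isomorphism
    set A := Cfsg.suzukiTypeA F (φ : F →+* F) with hA
    have hAm : ∀ x y, typeAMat (φ : F →+* F) x y ∈ A := fun x y =>
      (suzukiTypeA_mem _).2 ⟨x, y, rfl⟩
    choose cA yA hAeq using fun g : A => (suzukiTypeA_mem (φ : F →+* F)).1 g.2
    have huni : ∀ (g : A) x y, typeAMat (φ : F →+* F) x y = g → cA g = x ∧ yA g = y := fun g x y h =>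
      typeAMat_inj _ ((hAeq g).trans h.symm)
    refine iso_of_same_squares (fun x => σ (c x)) cA (fun w => fr.emb (e0 * w))
      (fun w => ⟨typeAMat (φ : F →+* F) 0 w, hAm 0 w⟩) (fun x y => by rw [hcadd, map_add]) ?_
      (fun v => ⟨s (σ.symm v), by rw [hs, σ.apply_symm_apply]⟩)
      (fun v => ⟨⟨_, hAm v 0⟩, (huni _ v 0 rfl).1⟩) ?_ ?_ ?_ ?_ ?_ ?_ ?_ ?_
      (fun a => a * φ a) ?_ ?_
    · intro g h
      refine (huni (g * h) (cA g + cA h) (yA g + yA h + φ (cA g) * cA h) ?_).1
      rw [Subgroup.coe_mul, ← hAeq g, ← hAeq h, typeAMat_mul]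
      rfl
    · intro x
      rw [map_eq_zero, hcker, fr.mem_center_iff_sq hP hna hu0]
      constructor
      · intro h
        refine ⟨fr.log x / e0, ?_⟩
        rw [mul_div_cancel₀ _ he0ne, fr.emb_log h]
      · rintro ⟨w, rfl⟩
        exact fr.emb_mul_self _
    · intro g
      constructor
      · intro h
        refine ⟨yA g, Subtype.ext ?_⟩
        show typeAMat (φ : F →+* F) 0 (yA g) = g
        rw [← h]; exact hAeq g
      · rintro ⟨w, rfl⟩
        exact (huni _ 0 w rfl).1
    · intro v w; rw [mul_add, fr.emb_add]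
    · intro v w
      refine Subtype.ext ?_
      show typeAMat (φ : F →+* F) 0 (v + w) = typeAMat _ 0 v * typeAMat _ 0 w
      rw [typeAMat_mul, map_zero, zero_mul, add_zero, add_zero]
    · intro v w h; exact mul_left_cancel₀ he0ne (fr.emb_inj h)
    · intro v w h; exact (typeAMat_inj _ (congrArg Subtype.val h)).2
    · intro w g; exact fr.emb_central hP _ g
    · intro w g
      refine Subtype.ext ?_
      show (g : GL (Fin 3) F) * typeAMat (φ : F →+* F) 0 w = typeAMat _ 0 w * g
      rw [← hAeq g, typeAMat_mul, typeAMat_mul]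
      simp [add_comm]
    · intro x
      show x * x = fr.emb (e0 * (σ (c x) * φ (σ (c x))))
      rw [← hmφ]
      show _ = fr.emb (e0 * (Q (c x) / e0))
      rw [mul_div_cancel₀ _ he0ne, ← hQ, fr.emb_log (fr.sq_sq hP hna hu0 x)]
    · intro g
      refine Subtype.ext ?_
      show (g : GL (Fin 3) F) * g = typeAMat (φ : F →+* F) 0 (cA g * φ (cA g))
      rw [← hAeq g, typeAMat_mul, CharTwo.add_self_eq_zero, CharTwo.add_self_eq_zero, zero_add,
        RingEquiv.coe_toRingHom, mul_comm]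

end Frame

end Cfsg.Agent.SuzukiTwo
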